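import Cfsg.Agent.Lib.Invol.AbelTwo.ReeTrans.Main
import Cfsg.Agent.Lib.Invol.CycTI.Ree.Sys
import Cfsg.Agent.Lib.Invol.AbelTwo.Hub
import Cfsg.Agent.Lib.Invol.JankoWard.Ward
import Cfsg.Agent.Lib.Grp.CycTwoFix.Elim
import Cfsg.Agent.Lib.Lie.SympWreath

/-!
# A group of Ree type at a given involution
-/

set_option autoImplicit false
set_option linter.unusedSectionVars false
set_option linter.style.haveILetI false

open scoped Classical

namespace Cfsg.Agent.Invol.IsolatedSfour.Ree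

open Subgroup

universe u

variable {G : Type u} [Group G] [Finite G]

/-- The order of the second factor is large. -/
theorem exists_big_subgroup (h : Cfsg.IsReeType G) : ∃ K : Subgroup G, 9828 ≤ Nat.card ↥K := by
  obtain ⟨-, -, t, K, n, hn, -, -, -, F, i, j, hF, ⟨e⟩⟩ := h
  refine ⟨K, ?_⟩
  rw [Nat.card_congr e.toEquiv]
  have hodd : Odd (Fintype.card F) := by rw [hF]; exact (by decide : Odd 3).pow
  have hc := Invol.GW.card_PSLTwo (F := F) hodd
  have h27 : 27 ≤ Fintype.card F := by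
    rw [hF]; exact le_trans (show 27 ≤ 3 ^ 3 by norm_num) (Nat.pow_le_pow_right (by norm_num) (by omega))
  have : 27 * (26 * 28) ≤ Fintype.card F * ((Fintype.card F - 1) * (Fintype.card F + 1)) :=
    Nat.mul_le_mul h27 (Nat.mul_le_mul (by omega) (by omega))
  omega

/-- The Sylow 2-subgroups are of the Janko kind. -/
theorem sylow_shape (h : Cfsg.IsReeType G) (S : Sylow 2 G) :
    Nat.card ↥(S : Subgroup G) = 8 ∧ (∀ x ∈ (S : Subgroup G), x * x = 1) ∧
      ∀ t ∈ (S : Subgroup G), t ≠ 1 → AbelTwo.JRShape t := by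
  haveI : Fact (Nat.Prime 2) := ⟨Nat.prime_two⟩
  obtain ⟨K₀, hK₀⟩ := exists_big_subgroup h
  have h8 := (Grp.CycTwoFix.ree_two h).1 S
  have hE : ∀ x ∈ (S : Subgroup G), x * x = 1 := fun x hx => by
    obtain ⟨k, hk⟩ := S.isPGroup' ⟨x, hx⟩
    exact Spor.Gold.Fam.two_exp_of_four (Grp.CycTwoFix.ree_two h).2 x k (congrArg Subtype.val hk)
  haveI := h.1
  have hS : IsMulCommutative ↥(S : Subgroup G) := ⟨⟨fun a b => Subtype.ext (by
    have hab := hE _ (mul_mem a.2 b.2)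
    show (a : G) * b = b * a
    rw [← inv_eq_of_mul_eq_one_right hab, _root_.mul_inv_rev, inv_eq_of_mul_eq_one_right (hE _ a.2),
      inv_eq_of_mul_eq_one_right (hE _ b.2)])⟩⟩
  have hdvd : 8 ∣ Nat.card G := h8 ▸ card_subgroup_dvd_card _
  have h16 : ¬ 16 ∣ Nat.card G := fun h' => by
    have := S.pow_dvd_card_of_pow_dvd_card (n := 4) h'
    rw [h8] at this
    norm_num at this
  rcases AbelTwo.trichotomy h.2.1 (ThreeFree.two_dvd_card h.2.1) S hS with
    ⟨F, i, j, n, hn, hF, ⟨e⟩⟩ | ⟨F, i, j, hodd, -, hm, ⟨e⟩⟩ | h'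
  · exfalso
    haveI : CharP F 2 := ThreeFree.charP_two (by rw [hF]; exact Nat.even_pow.2 ⟨even_two, by omega⟩)
    have hc : Nat.card G = 2 ^ n * ((2 ^ n) ^ 2 - 1) := by
      rw [Nat.card_congr (e.trans (Invol.GW.SLTwoEquivPSL (F := F)).symm).toEquiv,
        Cfsg.Agent.Lie.SympWreath.natCard_SL2, hF]
    have hn3 : n ≤ 3 := by
      by_contra hn4
      exact h16 (hc ▸ (pow_dvd_pow 2 (show 4 ≤ n by omega)).mul_right _)
    have hle : Nat.card ↥K₀ ≤ Nat.card G := Nat.le_of_dvd Nat.card_pos (card_subgroup_dvd_card K₀)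
    rw [hc] at hle
    interval_cases n <;> omega
  · exfalso
    have hc := Invol.GW.card_PSLTwo (F := F) hodd
    rw [← Nat.card_congr e.toEquiv] at hc
    obtain ⟨k, hk⟩ := hdvd
    obtain ⟨a, ha⟩ : ∃ a, Fintype.card F = 8 * a + 3 ∨ Fintype.card F = 8 * a + 5 :=
      ⟨Fintype.card F / 8, by omega⟩
    have h16' : 16 ∣ 2 * Nat.card G := ⟨k, by omega⟩
    rw [hc, Nat.dvd_iff_mod_eq_zero] at h16'
    have hgen : ∀ x, x < 16 → (x % 8 = 3 ∨ x % 8 = 5) → x * ((x + 15) % 16 * ((x + 1) % 16)) % 16 ≠ 0 := by decide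
    refine hgen (Fintype.card F % 16) (Nat.mod_lt _ (by norm_num)) (by omega) ?_
    rw [← h16', Nat.mul_mod (Fintype.card F), Nat.mul_mod (Fintype.card F - 1)]
    rw [show (Fintype.card F % 16 + 15) % 16 = (Fintype.card F - 1) % 16 by omega,
      show (Fintype.card F % 16 + 1) % 16 = (Fintype.card F + 1) % 16 by omega]
    simp [Nat.mul_mod]
  · exact h'

/-- The system at an involution. -/
theorem exists_data (h : Cfsg.IsReeType G) : ∃ (F : Type) (_ : Field F) (_ : Fintype F)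
      (X : CycTI.Ree.Sys G (Matrix.ProjectiveSpecialLinearGroup (Fin 2) F)) (n : ℕ),
      1 ≤ n ∧ Fintype.card F = 3 ^ (2 * n + 1) ∧ X.q = Fintype.card F ∧
      IsCoatom (centralizer ({X.t} : Set G)) := by
  haveI : Fact (Nat.Prime 2) := ⟨Nat.prime_two⟩
  haveI := h.1
  obtain ⟨K₀, hK₀⟩ := exists_big_subgroup h
  obtain ⟨S⟩ : Nonempty (Sylow 2 G) := inferInstance
  obtain ⟨h8, hel, hJ⟩ := sylow_shape h S
  obtain ⟨⟨t, htS⟩, ht⟩ := exists_prime_orderOf_dvd_card' (G := ↥(S : Subgroup G)) 2 (by rw [h8]; norm_num)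
  rw [Subgroup.orderOf_mk] at ht
  have ht1 : t ≠ 1 := fun e => by rw [e, orderOf_one] at ht; omega
  have hmax := (hJ t htS ht1).1
  obtain ⟨hodd, L, hL, F, i, j, ⟨e⟩, h5 | ⟨m, hm, hF, hord⟩⟩ :=
    JankoWard.ward G h.1 h.2.1 S h8 hel hJ t ht
  · exfalso
    have hSc : IsMulCommutative ↥(S : Subgroup G) := ⟨⟨fun a b => Subtype.ext (by
      have hab := hel _ (mul_mem a.2 b.2)
      show (a : G) * b = b * a
      rw [← inv_eq_of_mul_eq_one_right hab, _root_.mul_inv_rev, inv_eq_of_mul_eq_one_right (hel _ a.2),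
        inv_eq_of_mul_eq_one_right (hel _ b.2)])⟩⟩
    obtain ⟨-, hj⟩ := AbelTwo.j1_of_five S hSc h8 ht hL h5 e
    have hcard : Nat.card G = 175560 := hj.2
    -- the order of an involution centraliser of a group of Ree type
    obtain ⟨-, -, t₀, K, n, hn, ht₀, -, -, F₀, i₀, j₀, hF₀, ⟨e₀⟩⟩ := h
    have hd : Nat.card ↥K ∣ 175560 := hcard ▸ card_subgroup_dvd_card K
    have hc := Invol.GW.card_PSLTwo (F := F₀) (by rw [hF₀]; exact (by decide : Odd 3).pow)
    rw [← Nat.card_congr e₀.toEquiv] at hc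
    have h27 : 27 ∣ Fintype.card F₀ := hF₀ ▸ (show 27 ∣ 3 ^ 3 by norm_num).trans (pow_dvd_pow 3 (by omega))
    have h2 : 27 ∣ 2 * 175560 := dvd_trans (dvd_trans (h27.mul_right _) hc.symm.dvd) (Nat.mul_dvd_mul_left 2 hd)
    norm_num at h2
  obtain ⟨-, -, hcomm, hinf, hsup⟩ := id hL
  have h8F : Fintype.card F % 8 = 3 := by
    rw [hF, pow_succ, pow_mul, Nat.mul_mod, Nat.pow_mod]; norm_num
  have h27 : 27 ≤ Fintype.card F := by
    rw [hF]; exact le_trans (show 27 ≤ 3 ^ 3 by norm_num) (Nat.pow_le_pow_right (by norm_num) (by omega))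
  obtain ⟨D, -, hDq⟩ := JankoWard.PSL.exists_lData_lChars F (Or.inl h8F) (by omega)
  obtain ⟨pk⟩ := AbelTwo.ReeAbel.exists_pack (F := F) (by omega)
  have hδ : D.δ = -1 := by
    rcases D.hδ with h | h
    · exfalso
      have h1 := D.hq
      obtain ⟨d, hd⟩ := D.r_odd
      rw [h, hDq] at h1
      omega
    · exact h
  let lp : AbelTwo.ReeTrans.LPack (Matrix.ProjectiveSpecialLinearGroup (Fin 2) F) :=
    { D := D
      K := hDq ▸ pk
      e := 2 * m + 1
      hqe := hDq.trans hF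
      q_ge := hDq ▸ h27
      hδ := hδ
      rigid := fun k hk hk1 a j ha h => AbelTwo.psl_three_rigid hF hk hk1 ha h }
  obtain ⟨B, hBt, hBD⟩ := JankoWard.exists_base D ht hodd hL e
  have A := JankoWard.Amb.of_sylow h.2.1 S h8 hel
  obtain ⟨loc⟩ := B.exists_locals A
  let T : AbelTwo.ReeTrans.Data G (Matrix.ProjectiveSpecialLinearGroup (Fin 2) F) :=
    { lp := lp, B := B, hBD := hBD, loc := loc, amb := A
      card_G := by
        show Nat.card G = D.q ^ 3 * (D.q ^ 3 + 1) * (D.q - 1)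
        rw [hDq, hF]; exact hord }
  obtain ⟨Q, hc, hQ, hUQ, hT⟩ := T.exists_sylow
  refine ⟨F, i, j, ⟨T, Q, hc, hQ, hUQ, hT⟩, m, hm, hF, hDq, ?_⟩
  show IsCoatom (centralizer ({B.t} : Set G))
  rw [hBt]
  exact hmax

end Cfsg.Agent.Invol.IsolatedSfour.Ree
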