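import Mathlib

/-!
# The exponent of the fixed part of a Sylow 3-subgroup
-/

set_option autoImplicit false

namespace Cfsg.Agent.Invol.IsolatedSfour.Ree

/-- Raising to the power `p` gains a factor `p`. -/
theorem dvd_pow_add_one {p v : ℕ} (hv : 1 ≤ v) (hodd : Odd p) {x : ℤ} (h : (p : ℤ) ^ v ∣ x + 1) :
    (p : ℤ) ^ (v + 1) ∣ x ^ p + 1 := by
  have hp : (p : ℤ) ∣ x - (-1) := by
    rw [sub_neg_eq_add]
    exact (dvd_pow_self _ (by omega)).trans h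
  have h1 : (p : ℤ) ∣ ∑ i ∈ Finset.range p, x ^ i * (-1 : ℤ) ^ (p - 1 - i) := dvd_geom_sum₂_self hp
  have h2 := geom_sum₂_mul x (-1 : ℤ) p
  rw [sub_neg_eq_add, hodd.neg_one_pow, sub_neg_eq_add] at h2
  rw [← h2, pow_succ']
  exact mul_dvd_mul h1 h

/-- The exponent is the whole one. -/
theorem exp_eq {p v k e g : ℕ} (hp : p.Prime) (hp2 : p ≠ 2) (hv : 1 ≤ v) (he : e = p * g) (hodd : Odd e)
    (hgk : g ∣ k) (hk : k ≤ 3 * e) (hdk : p ^ v ∣ 3 ^ k + 1) (hd3 : p ^ v ∣ 3 ^ (3 * e) + 1)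
    (hsharp : ¬ p ^ (v + 1) ∣ 3 ^ (3 * e) + 1) (hq1 : ¬ p ∣ 3 ^ e + 1) : k = 3 * e := by
  have hpodd := hp.odd_of_ne_two hp2
  have hk0 : k ≠ 0 := by
    rintro rfl
    have h : p ∣ 2 := (dvd_pow_self p (by omega)).trans hdk
    exact hp2 ((Nat.prime_dvd_prime_iff_eq hp Nat.prime_two).1 h)
  set d := Nat.gcd k (3 * e) with hd
  obtain ⟨j, hj⟩ : d ∣ 3 * e := Nat.gcd_dvd_right _ _
  have h3e : Odd (3 * e) := (by decide : Odd 3).mul hodd
  have hjodd : Odd j := (Nat.odd_mul.1 (hj ▸ h3e)).2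
  obtain ⟨i, hi⟩ := hjodd
  -- the congruence for the common divisor
  have hdd : p ^ v ∣ 3 ^ d + 1 := by
    have hz : ∀ {n : ℕ}, p ^ v ∣ 3 ^ n + 1 → ((3 : ZMod (p ^ v))) ^ n = -1 := fun {n} h => by
      have h' := (ZMod.natCast_eq_zero_iff _ (p ^ v)).2 h
      push_cast at h'
      exact eq_neg_of_add_eq_zero_left h'
    have h2k : (3 : ZMod (p ^ v)) ^ (2 * d) = 1 := by
      rw [hd, ← Nat.gcd_mul_left]
      refine pow_gcd_eq_one.2 ⟨?_, ?_⟩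
      · rw [mul_comm, pow_mul, hz hdk, neg_one_sq]
      · rw [mul_comm 2, pow_mul, hz hd3, neg_one_sq]
    have h := hz hd3
    rw [hj, hi, show d * (2 * i + 1) = 2 * d * i + d by ring, pow_add, pow_mul, h2k, one_pow, one_mul] at h
    refine (ZMod.natCast_eq_zero_iff _ (p ^ v)).1 ?_
    push_cast
    rw [h, neg_add_cancel]
  -- the prime does not divide the cofactor
  have hpj : ¬ p ∣ j := by
    rintro ⟨l, hl⟩
    refine hsharp ?_
    have hlodd : Odd l := (Nat.odd_mul.1 (hl ▸ (⟨i, hi⟩ : Odd j))).2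
    have h1 : (p : ℤ) ^ v ∣ (3 : ℤ) ^ d + 1 := by exact_mod_cast Int.natCast_dvd_natCast.2 hdd
    have h2 := dvd_pow_add_one hv hpodd h1
    have h3 : ((3 : ℤ) ^ d) ^ p + 1 ∣ (((3 : ℤ) ^ d) ^ p) ^ l + 1 := by
      have h := hlodd.add_dvd_pow_add_pow (((3 : ℤ) ^ d) ^ p) 1
      rwa [one_pow] at h
    have h4 := h2.trans h3
    rw [← pow_mul, ← pow_mul, ← hl, ← hj] at h4
    exact_mod_cast h4
  -- the divisor
  obtain ⟨d', hd'⟩ : g ∣ d := Nat.dvd_gcd hgk (Dvd.intro_left (3 * p) (by rw [he]; ring))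
  have hg0 : g ≠ 0 := by
    rintro rfl
    obtain ⟨l, hl⟩ := hodd
    omega
  have hdj : d' * j = 3 * p := by
    refine Nat.eq_of_mul_eq_mul_left (Nat.pos_of_ne_zero hg0) ?_
    rw [← mul_assoc, ← hd', ← hj, he]; ring
  have hpd : p ∣ d' := ((hp.dvd_mul).1 (hdj ▸ dvd_mul_left p 3)).resolve_right hpj
  obtain ⟨l, hl⟩ := hpd
  have hlj : l * j = 3 := Nat.eq_of_mul_eq_mul_left hp.pos (by rw [← mul_assoc, ← hl, hdj, mul_comm])
  rcases (Nat.dvd_prime Nat.prime_three).1 (Dvd.intro j hlj) with hl1 | hl3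
  · -- `d = e`
    exfalso
    refine hq1 ((dvd_pow_self p (show v ≠ 0 by omega)).trans ?_)
    rw [show e = d by rw [hd', hl, hl1, he]; ring]
    exact hdd
  · have hde : d = 3 * e := by rw [hd', hl, hl3, he]; ring
    have hdiv : 3 * e ∣ k := hde ▸ Nat.gcd_dvd_left k (3 * e)
    exact le_antisymm hk (Nat.le_of_dvd (Nat.pos_of_ne_zero hk0) hdiv)

end Cfsg.Agent.Invol.IsolatedSfour.Ree
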