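import Cfsg.Agent.Lib.Invol.IsolatedSfour.Ree.Points
import Cfsg.Agent.Lib.Invol.IsolatedSfour.Ree.Exp

/-!
# An automorphism fixing two points and a Sylow subgroup for a divisor of `q² - q + 1`
-/

set_option autoImplicit false
set_option linter.unusedSectionVars false
set_option linter.style.haveILetI false

open scoped Classical Pointwise

namespace Cfsg.Agent.Invol.IsolatedSfour.Ree

open Subgroup
open Cfsg.Agent.Invol.CycTI.Ree (Sys)

universe u v

variable {K : Type u} [Group K] [Finite K] {P : Type v} [Group P] (R : Sys K P) {p : ℕ} [hp : Fact p.Prime]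

/-- The fixed points on an invariant set. -/
theorem modEq_fixed {α : MulAut K} (hα : α ^ p = 1) (pr : Sylow 3 K → Prop) (hpr : ∀ S, pr S → pr (α • S)) :
    Nat.card {S : Sylow 3 K // pr S} ≡ Nat.card {S : Sylow 3 K // pr S ∧ α • S = S} [MOD p] := by
  have hpow : ∀ (n : ℕ) (S : Sylow 3 K), pr S → pr (α ^ n • S) := by
    intro n
    induction n with
    | zero => intro S hS; rwa [pow_zero, one_smul]
    | succ n ih => intro S hS; rw [pow_succ, mul_smul]; exact ih _ (hpr S hS)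
  have hγ : ∀ (γ : ↥(zpowers α)) (S : Sylow 3 K), pr S → pr ((γ : MulAut K) • S) := fun γ S hS => by
    obtain ⟨n, hn⟩ := Submonoid.mem_powers_iff _ _ |>.1
      ((IsOfFinOrder.mem_powers_iff_mem_zpowers (isOfFinOrder_iff_pow_eq_one.2 ⟨p, hp.out.pos, hα⟩)).2 γ.2)
    rw [← hn]
    exact hpow n S hS
  letI : MulAction ↥(zpowers α) {S : Sylow 3 K // pr S} :=
    { smul := fun γ S => ⟨(γ : MulAut K) • (S : Sylow 3 K), hγ γ S S.2⟩
      one_smul := fun S => Subtype.ext (one_smul (MulAut K) (S : Sylow 3 K))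
      mul_smul := fun a b S => Subtype.ext (mul_smul (a : MulAut K) (b : MulAut K) (S : Sylow 3 K)) }
  have hpg : IsPGroup p ↥(zpowers α) := by
    obtain ⟨i, -, hi⟩ := (Nat.dvd_prime_pow hp.out).1
      (show orderOf α ∣ p ^ 1 by rw [pow_one]; exact orderOf_dvd_of_pow_eq_one hα)
    exact IsPGroup.of_card (n := i) (by rw [Nat.card_zpowers, hi])
  refine (hpg.card_modEq_card_fixedPoints {S : Sylow 3 K // pr S}).trans (Eq.congr_left ?_ |>.2 rfl)
  refine congrArg (· % p) (Nat.card_congr ?_)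
  refine
    { toFun := fun S => ⟨(S : {S : Sylow 3 K // pr S}), S.1.2, congrArg Subtype.val (S.2 ⟨α, mem_zpowers α⟩)⟩
      invFun := fun S => ⟨⟨S.1, S.2.1⟩, fun γ => Subtype.ext ?_⟩
      left_inv := fun _ => rfl
      right_inv := fun _ => rfl }
  obtain ⟨n, hn⟩ := Submonoid.mem_powers_iff _ _ |>.1
    ((IsOfFinOrder.mem_powers_iff_mem_zpowers (isOfFinOrder_iff_pow_eq_one.2 ⟨p, hp.out.pos, hα⟩)).2 γ.2)
  show (γ : MulAut K) • (S.1 : Sylow 3 K) = S.1
  rw [← hn]
  have h := S.2.2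
  clear hn
  induction n with
  | zero => exact one_smul _ _
  | succ n ih => rw [pow_succ, mul_smul, h, ih]

/-- The stabiliser of the two standard points is the torus. -/
theorem mem_T_of_two {n : K} (h0 : n • S₀ R = S₀ R) (h1 : n • (R.S.w • S₀ R) = R.S.w • S₀ R) : n ∈ R.S.T := by
  rw [smul_S₀_eq] at h0
  rw [mem_stab_iff] at h1
  obtain ⟨τ, hτ, a, ha, rfl⟩ := R.N_elim h0
  obtain ⟨y, hy, hy'⟩ := R.S.mem_T hτ
  have hwτ : R.S.w * τ * R.S.w⁻¹ ∈ normalizer (R.Q : Set K) := by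
    rcases hy' with rfl | rfl
    · rw [R.S.w_y hy]
      exact inv_mem (R.hT (R.Ym_le (R.mem_Ym hy)))
    · rw [show R.S.w * (R.S.t * R.S.ι y) * R.S.w⁻¹ = (R.S.w * R.S.t * R.S.w⁻¹) * (R.S.w * R.S.ι y * R.S.w⁻¹) by group,
        R.S.w_y hy, ← R.S.tw, mul_inv_cancel_right]
      exact mul_mem (R.hT R.t_mem) (inv_mem (R.hT (R.Ym_le (R.mem_Ym hy))))
  have hwa : R.S.w * a * R.S.w⁻¹ ∈ normalizer (R.Q : Set K) := by
    have h := mul_mem (inv_mem hwτ) h1
    convert h using 1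
    simp only [_root_.mul_inv_rev, R.S.w_inv]
    rw [show R.S.w * (τ⁻¹ * R.S.w) * (R.S.w * (τ * a) * R.S.w) =
      R.S.w * τ⁻¹ * (R.S.w * R.S.w) * τ * a * R.S.w by group, R.S.ww]
    group
  obtain ⟨j, hj⟩ := R.hQ ⟨a, ha⟩
  have hwQ := R.three_mem (x := R.S.w * a * R.S.w⁻¹) (j := j)
    (by rw [conj_pow, show a ^ 3 ^ j = 1 from congrArg Subtype.val hj]; group) hwa
  rw [R.S.inter_eq R.hc R.hQ R.hUQ R.hT ha hwQ, mul_one]
  exact hτ

/-- An involution of the torus. -/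
theorem eq_t_of_mem {n : K} (hn : n ∈ R.S.T) (h2 : orderOf n = 2) : n = R.t := by
  obtain ⟨y, hy, hy'⟩ := R.S.mem_T hn
  rcases R.S.invol_T hy hy' (by rw [← pow_two, ← h2, pow_orderOf_eq_one]) with h | h
  · rw [h, orderOf_one] at h2; omega
  · exact h

/-- An automorphism fixing the two standard points fixes the involution. -/
theorem fix_t {α : MulAut K} (h0 : α • S₀ R = S₀ R) (h1 : α • (R.S.w • S₀ R) = R.S.w • S₀ R) : α R.t = R.t := by
  have hT : R.t ∈ normalizer (R.Q : Set K) := R.hT R.t_mem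
  have e0 : R.t • S₀ R = S₀ R := (smul_S₀_eq R).2 hT
  have e1 : R.t • (R.S.w • S₀ R) = R.S.w • S₀ R := by rw [← mul_smul, R.S.tw, mul_smul, e0]
  refine eq_t_of_mem R (mem_T_of_two R ?_ ?_) ((MulEquiv.orderOf_eq α R.t).trans R.ord_t)
  · have h := aut_smul α R.t (S₀ R)
    rwa [e0, h0, eq_comm] at h
  · have h := aut_smul α R.t (R.S.w • S₀ R)
    rwa [e1, h1, eq_comm] at h

include R in
/-- An automorphism fixing every point is trivial. -/
theorem eq_one_of_all [IsSimpleGroup K] {α : MulAut K} (h : ∀ S : Sylow 3 K, α • S = S) : α = 1 := by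
  set N := (MulAction.toPermHom K (Sylow 3 K)).ker
  rcases (inferInstance : N.Normal).eq_bot_or_eq_top with e | e
  · refine MulEquiv.ext fun x => ?_
    have hx : x⁻¹ * α x ∈ N := by
      refine MonoidHom.mem_ker.2 (Equiv.ext fun S => ?_)
      show (x⁻¹ * α x) • S = S
      have h1 := aut_smul α x S
      rw [h, h] at h1
      rw [mul_smul, inv_smul_eq_iff]
      exact h1.symm
    rw [e, mem_bot, inv_mul_eq_one] at hx
    exact hx.symm
  · exfalso
    have hw : R.S.w ∈ N := e ▸ mem_top _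
    have hw' : R.S.w • S₀ R = S₀ R := DFunLike.congr_fun (MonoidHom.mem_ker.1 hw) (S₀ R)
    exact R.S.w_not_mem R.hc R.hQ R.hUQ R.hT ((smul_S₀_eq R).1 hw')

/-- Such an automorphism is trivial. -/
theorem fix_all [IsSimpleGroup K] {g : ℕ} (he : R.e = p * g) (hodd : Odd R.e) (hp2 : p ≠ 2)
    (hW : p ∣ R.q ^ 2 - R.q + 1) {α : MulAut K} (h0 : α • S₀ R = S₀ R)
    (h1 : α • (R.S.w • S₀ R) = R.S.w • S₀ R) (S : Sylow p K) (hS : ∀ y ∈ (S : Subgroup K), α y = y)
    (H : Subgroup K) (hHY : H ≤ R.S.Ym) (hH : ∀ h ∈ H, α h = h) (hHc : 2 * Nat.card ↥H + 1 = 3 ^ g) : α = 1 := by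
  haveI : Fact (Nat.Prime 3) := ⟨Nat.prime_three⟩
  set C : Subgroup K := R.Q ⊓ α.toMonoidHom.eqLocus (MonoidHom.id K) with hC
  obtain ⟨k, hk⟩ := IsPGroup.iff_card.1 (R.hQ.to_le (inf_le_left : C ≤ R.Q))
  have hf := card_fixed R h0 h1
  rw [← hC, hk] at hf
  have hk3 : k ≤ 3 * R.e := by
    have h := Nat.le_of_dvd Nat.card_pos (card_dvd_of_le (inf_le_left : C ≤ R.Q))
    rw [hk, R.hc, show R.S.lp.D.q = 3 ^ R.e from R.q_three, ← pow_mul] at h
    rw [mul_comm]
    exact (Nat.pow_le_pow_iff_right (by norm_num)).1 h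
  -- the torus part acts freely on the fixed part of the Sylow subgroup
  have hgk : g ∣ k := by
    letI : MulAction ↥H {x : ↥C // x ≠ 1} :=
      { smul := fun h x => ⟨⟨(h : K) * (x.1 : K) * (h : K)⁻¹, (mem_normalizer_iff.1 (R.hT (R.Ym_le (hHY h.2))) _).1 x.1.2.1, by
            show α ((h : K) * (x.1 : K) * (h : K)⁻¹) = (h : K) * (x.1 : K) * (h : K)⁻¹
            rw [map_mul, map_mul, map_inv, hH _ h.2, show α (x.1 : K) = (x.1 : K) from x.1.2.2]⟩,
          fun e => x.2 (Subtype.ext (conj_eq_one_iff.1 (congrArg Subtype.val e)))⟩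
        one_smul := fun x => Subtype.ext (Subtype.ext (show (1 : K) * (x.1 : K) * (1 : K)⁻¹ = x.1 by group))
        mul_smul := fun a b x => Subtype.ext (Subtype.ext (show ((a : K) * b) * (x.1 : K) * ((a : K) * b)⁻¹ =
          (a : K) * ((b : K) * (x.1 : K) * (b : K)⁻¹) * (a : K)⁻¹ by group)) }
    have hd : Nat.card ↥H ∣ Nat.card {x : ↥C // x ≠ 1} := by
      refine card_dvd_of_free fun h x hx => ?_
      by_contra hh
      obtain ⟨y, hy, hyh⟩ := hHY h.2
      have hy1 : y ≠ 1 := fun e => hh (Subtype.ext (by rw [← hyh, e, map_one]; rfl))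
      have hcomm : (h : K) * (x.1 : K) = (x.1 : K) * h :=
        mul_inv_eq_iff_eq_mul.1 (congrArg (fun z : {x : ↥C // x ≠ 1} => ((z.1 : ↥C) : K)) hx)
      rw [← hyh] at hcomm
      exact x.2 (Subtype.ext (R.y_fpf hy hy1 x.1.2.1 hcomm))
    have hcard : Nat.card {x : ↥C // x ≠ 1} = 3 ^ k - 1 := by
      haveI : Fintype ↥C := Fintype.ofFinite _
      rw [Nat.card_eq_fintype_card, Fintype.card_subtype_compl, Fintype.card_subtype_eq, ← Nat.card_eq_fintype_card, hk]
    rw [hcard] at hd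
    rcases Nat.eq_zero_or_pos g with hg0 | hg0
    · rw [hg0, mul_zero] at he
      rw [he] at hodd
      exact absurd hodd (by decide)
    have hz : ((3 : ZMod (Nat.card ↥H))) ^ g = 1 := by
      have h := congrArg (fun n : ℕ => (n : ZMod (Nat.card ↥H))) hHc
      push_cast [ZMod.natCast_self] at h
      rw [← h]; ring
    have hr : Nat.card ↥H ∣ 3 ^ (k % g) - 1 := by
      refine (ZMod.natCast_eq_zero_iff _ _).1 ?_
      have h := (ZMod.natCast_eq_zero_iff _ _).2 hd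
      rw [Nat.cast_sub (Nat.one_le_pow _ _ (by norm_num))] at h
      rw [Nat.cast_sub (Nat.one_le_pow _ _ (by norm_num))]
      push_cast at h ⊢
      rwa [← Nat.mod_add_div k g, pow_add, pow_mul (3 : ZMod (Nat.card ↥H)) g, hz, one_pow, mul_one] at h
    by_contra hgk
    have h1 : 1 ≤ k % g := Nat.pos_of_ne_zero fun e => hgk (Nat.dvd_of_mod_eq_zero e)
    have h3 : 3 ≤ 3 ^ (k % g) := le_trans (le_of_eq (pow_one 3).symm) (Nat.pow_le_pow_right (by norm_num) h1)
    have hle := Nat.le_of_dvd (by omega) hr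
    have hlt : 3 * 3 ^ (k % g) ≤ 3 ^ g := by
      rw [← pow_succ']; exact Nat.pow_le_pow_right (by norm_num) (Nat.mod_lt k hg0)
    omega
  -- the Sylow subgroup acts freely on the fixed points
  have hco : p.Coprime (R.q * (R.q ^ 2 - 1)) := R.coprime_w.coprime_dvd_left hW
  set v := (Nat.card K).factorization p with hv
  have hSf : p ^ v ∣ 3 ^ k + 1 := by
    rw [← hf, ← S.card_eq_multiplicity]
    letI : MulAction ↥(S : Subgroup K) {T : Sylow 3 K // α • T = T} :=
      { smul := fun y T => ⟨(y : K) • (T : Sylow 3 K), by rw [aut_smul, hS _ y.2, T.2]⟩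
        one_smul := fun T => Subtype.ext (one_smul K (T : Sylow 3 K))
        mul_smul := fun a b T => Subtype.ext (mul_smul (a : K) (b : K) (T : Sylow 3 K)) }
    refine card_dvd_of_free fun y T hy => Subtype.ext (not_fix R ?_ (congrArg Subtype.val hy))
    obtain ⟨i, hi⟩ := S.isPGroup' y
    exact (hco.pow_left i).coprime_dvd_left (orderOf_dvd_of_pow_eq_one (congrArg Subtype.val hi))
  have hmul : Nat.card K = R.q ^ 3 * (R.q - 1) * (R.q ^ 3 + 1) := by rw [R.S.card_G]; ring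
  have hq1 : R.q - 1 ∣ R.q ^ 2 - 1 := by
    rw [R.sq_sub, show R.q - 1 = 2 * R.m by have := R.q_m; omega]; exact ⟨4 * R.r, by ring⟩
  have hq2 : R.q + 1 ∣ R.q * (R.q ^ 2 - 1) := by
    rw [R.q_r, R.sq_sub]; exact ⟨2 * R.m * R.q, by ring⟩
  have hpq : ¬ p ∣ R.q + 1 := fun h => hp.out.ne_one (Nat.eq_one_of_dvd_coprimes hco dvd_rfl (h.trans hq2))
  have hco' : p.Coprime (R.q ^ 3 * (R.q - 1)) :=
    ((hco.coprime_dvd_right (Dvd.intro _ rfl)).pow_right 3).mul_right
      (hco.coprime_dvd_right (hq1.mul_left _ |>.trans dvd_rfl) |>.coprime_dvd_right (dvd_refl _))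
  have hd3 : p ^ v ∣ 3 ^ (3 * R.e) + 1 := by
    rw [mul_comm, pow_mul, ← R.q_three]
    exact (hco'.pow_left v).dvd_of_dvd_mul_left (hmul ▸ Nat.ordProj_dvd _ _)
  have hsharp : ¬ p ^ (v + 1) ∣ 3 ^ (3 * R.e) + 1 := by
    rw [mul_comm, pow_mul, ← R.q_three]
    exact fun h => Nat.pow_succ_factorization_not_dvd Nat.card_pos.ne' hp.out (hmul ▸ h.mul_left _)
  have hv1 : 1 ≤ v := hp.out.factorization_pos_of_dvd Nat.card_pos.ne' (by
    rw [R.card_G]; exact hW.mul_left _)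
  have hk' := exp_eq hp.out hp2 hv1 he hodd hgk hk3 hSf hd3 hsharp (by rwa [← R.q_three])
  -- every point is fixed
  have hCQ : C = R.Q := eq_of_le_of_card_ge inf_le_left (by
    rw [hk, hk', R.hc, show R.S.lp.D.q = 3 ^ R.e from R.q_three, ← pow_mul, mul_comm])
  refine eq_one_of_all R fun T => ?_
  obtain ⟨o, rfl⟩ := (pt_bijective R).2 T
  rcases o with _ | ⟨a, ha⟩
  · exact h0
  · have ha' : a ∈ C := hCQ ▸ ha
    show α • ((a * R.S.w) • S₀ R) = (a * R.S.w) • S₀ R
    rw [mul_smul, aut_smul, h1, show α a = a from ha'.2]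

end Cfsg.Agent.Invol.IsolatedSfour.Ree
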