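import Cfsg.Agent.Lib.Invol.IsolatedSfour.Ree.Inner
import Cfsg.Agent.Lib.Invol.IsolatedSfour.Ree.Fixed

/-!
# No automorphism at a prime divisor of `q² - q + 1`

An automorphism of order `p` fixing the involution and a Sylow `p`-subgroup pointwise is trivial: otherwise it acts
as a field automorphism on the second factor, and a Sylow `p`-subgroup is semiregular on its `3ᵏ + 1` fixed points.
-/

set_option autoImplicit false
set_option linter.unusedSectionVars false
set_option linter.style.haveILetI false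

open scoped Classical Pointwise

namespace Cfsg.Agent.Invol.IsolatedSfour.Ree

open Subgroup
open Cfsg.Agent.Invol.CycTI.Ree (Sys)

universe u v

section Points

variable {K : Type u} [Group K] [Finite K] {P : Type v} [Group P] (R : Sys K P) {p : ℕ} [hp : Fact p.Prime]

/-- An automorphism of odd order fixing a split torus element fixes both standard points. -/
theorem fix_points_of_y (hp2 : p ≠ 2) {α : MulAut K} (hα : α ^ p = 1) {y : P} (hy : y ∈ R.S.lp.K.Y) (hy1 : y ≠ 1)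
    (hfix : α (R.ι y) = R.ι y) : α • S₀ R = S₀ R ∧ α • (R.S.w • S₀ R) = R.S.w • S₀ R := by
  have hyN : R.ι y ∈ normalizer (R.Q : Set K) := R.hT (R.Ym_le (R.mem_Ym hy))
  have h0 : R.ι y • S₀ R = S₀ R := (smul_S₀_eq R).2 hyN
  have h1 : R.ι y • (R.S.w • S₀ R) = R.S.w • S₀ R := by
    rw [mem_stab_iff, R.S.w_inv]
    have h : R.S.w * R.ι y * R.S.w⁻¹ ∈ normalizer (R.Q : Set K) := by rw [R.S.w_y hy]; exact inv_mem hyN
    rwa [R.S.w_inv] at h
  -- the only points fixed by the torus element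
  have honly : ∀ T : Sylow 3 K, R.ι y • T = T → T = S₀ R ∨ T = R.S.w • S₀ R := by
    intro T hT
    obtain ⟨c, rfl⟩ := MulAction.exists_smul_eq K (S₀ R) T
    rw [mem_stab_iff] at hT
    by_cases hc : c ∈ normalizer (R.Q : Set K)
    · exact Or.inl ((smul_S₀_eq R).2 hc)
    · obtain ⟨n, hn, rfl⟩ := fix_torus R hy hy1 hT hc
      exact Or.inr (by rw [mul_smul, (smul_S₀_eq R).2 hn])
  have himg : ∀ T : Sylow 3 K, R.ι y • T = T → R.ι y • (α • T) = α • T := fun T hT => by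
    conv_lhs => rw [← hfix]
    rw [← aut_smul, hT]
  rcases honly _ (himg _ h0) with h | h
  · refine ⟨h, ?_⟩
    rcases honly _ (himg _ h1) with h' | h'
    · have h' := h'.trans h.symm
      exact absurd ((pt_bijective R).1 (a₁ := some ⟨1, one_mem _⟩) (a₂ := none)
        (show ((1 : K) * R.S.w) • S₀ R = S₀ R by rw [one_mul]; exact smul_left_cancel α h')) (by simp)
    · exact h'
  exfalso
  rcases honly _ (himg _ h1) with h' | h'
  · have hev : ∀ i : ℕ, α ^ (2 * i + 1) • S₀ R = R.S.w • S₀ R := by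
      intro i
      induction i with
      | zero => rw [pow_one]; exact h
      | succ i ih => rw [show 2 * (i + 1) + 1 = 2 + (2 * i + 1) by ring, pow_add, mul_smul, ih, pow_two, mul_smul, h', h]
    obtain ⟨i, hi⟩ := hp.out.odd_of_ne_two hp2
    have h' := hev i
    rw [← hi, hα, one_smul] at h'
    exact R.S.w_not_mem R.hc R.hQ R.hUQ R.hT ((smul_S₀_eq R).1 h'.symm)
  · rw [← h'] at h
    exact R.S.w_not_mem R.hc R.hQ R.hUQ R.hT ((smul_S₀_eq R).1 (smul_left_cancel α h).symm)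

/-- Some conjugate fixes both standard points. -/
theorem exists_pair (hW : p ∣ R.q ^ 2 - R.q + 1) {α : MulAut K} (hα : α ^ p = 1) (ht : α R.t = R.t) :
    ∃ c : K, ((MulAut.conj c)⁻¹ * α * MulAut.conj c) • S₀ R = S₀ R ∧
      ((MulAut.conj c)⁻¹ * α * MulAut.conj c) • (R.S.w • S₀ R) = R.S.w • S₀ R := by
  have hco : p.Coprime (R.q * (R.q ^ 2 - 1)) := R.coprime_w.coprime_dvd_left hW
  have hq2 : R.q + 1 ∣ R.q * (R.q ^ 2 - 1) := by
    rw [R.q_r, R.sq_sub]; exact ⟨2 * R.m * R.q, by ring⟩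
  -- a fixed point among those of the involution
  have hinv : ∀ T : Sylow 3 K, R.t • T = T → R.t • (α • T) = α • T := fun T hT => by
    conv_lhs => rw [← ht]
    rw [← aut_smul, hT]
  have hmod := modEq_fixed hα (fun T : Sylow 3 K => R.t • T = T) hinv
  rw [card_fixed_t] at hmod
  obtain ⟨A, -, hA⟩ : ∃ A : Sylow 3 K, R.t • A = A ∧ α • A = A := by
    by_contra hne
    push Not at hne
    haveI : IsEmpty {T : Sylow 3 K // R.t • T = T ∧ α • T = T} := ⟨fun T => hne T T.2.1 T.2.2⟩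
    rw [Nat.card_of_isEmpty] at hmod
    exact hp.out.ne_one (Nat.eq_one_of_dvd_coprimes hco dvd_rfl ((Nat.modEq_zero_iff_dvd.1 hmod).trans hq2))
  -- hence two fixed points
  have hmod' := modEq_fixed hα (fun _ : Sylow 3 K => True) fun _ _ => trivial
  have hall : Nat.card {T : Sylow 3 K // True} = R.q ^ 3 + 1 := by
    rw [← card_points R]; exact Nat.card_congr (Equiv.subtypeUnivEquiv fun _ => trivial)
  have hpd : p ∣ R.q ^ 3 + 1 := hW.trans ⟨R.q + 1, by
    have h := R.qq_sub_add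
    zify [Nat.le_self_pow two_ne_zero R.q] at h ⊢
    ring⟩
  rw [hall] at hmod'
  have hdvd := Nat.modEq_zero_iff_dvd.1 (hmod'.symm.trans (Nat.modEq_zero_iff_dvd.2 hpd))
  obtain ⟨B, hB, hBA⟩ : ∃ B : Sylow 3 K, α • B = B ∧ B ≠ A := by
    by_contra hne
    push Not at hne
    have h1 : Nat.card {T : Sylow 3 K // True ∧ α • T = T} = 1 :=
      Nat.card_eq_one_iff_unique.2 ⟨⟨fun a b => Subtype.ext ((hne _ a.2.2).trans (hne _ b.2.2).symm)⟩,
        ⟨⟨A, trivial, hA⟩⟩⟩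
    rw [h1, Nat.dvd_one] at hdvd
    exact hp.out.ne_one hdvd
  obtain ⟨g, rfl⟩ := MulAction.exists_smul_eq K (S₀ R) A
  obtain ⟨o, ho⟩ := (pt_bijective R).2 (g⁻¹ • B)
  rcases o with _ | ⟨a, ha⟩
  · exact absurd (by rw [← inv_smul_eq_iff, ← ho]; rfl) hBA
  refine ⟨g * a, ?_, ?_⟩
  · have e : MulAut.conj (g * a) • S₀ R = g • S₀ R := by
      show (g * a) • S₀ R = g • S₀ R
      rw [mul_smul, (smul_S₀_eq R).2 (le_normalizer ha)]
    rw [mul_smul, mul_smul, e, hA, inv_smul_eq_iff, e]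
  · have e : MulAut.conj (g * a) • (R.S.w • S₀ R) = B := by
      show (g * a) • (R.S.w • S₀ R) = B
      rw [← mul_smul, mul_assoc, mul_smul, show (a * R.S.w) • S₀ R = g⁻¹ • B from ho, smul_inv_smul]
    rw [mul_smul, mul_smul, e, hB, inv_smul_eq_iff, e]

end Points

variable {F : Type} [Field F] [Fintype F] {p : ℕ} [hp : Fact p.Prime] {K : Type u} [Group K] [Finite K]
  [IsSimpleGroup K] (R : Sys K (Matrix.ProjectiveSpecialLinearGroup (Fin 2) F))

theorem conj_fix {α γ : MulAut K} {S : Sylow p K} (hS : ∀ y ∈ (S : Subgroup K), α y = y) :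
    ∀ y ∈ ((γ • S : Sylow p K) : Subgroup K), (γ * α * γ⁻¹) y = y := by
  intro y hy
  rw [Sylow.pointwise_smul_def, Subgroup.mem_pointwise_smul_iff_inv_smul_mem] at hy
  rw [MulAut.mul_apply, MulAut.mul_apply, show α (γ⁻¹ y) = γ⁻¹ y from hS _ hy, MulAut.apply_inv_self]

theorem conj_pow_eq {α γ : MulAut K} (hα : α ^ p = 1) : (γ * α * γ⁻¹) ^ p = 1 := by
  rw [conj_pow, hα, mul_one, mul_inv_cancel]

theorem eq_one_of_conj {α γ : MulAut K} (h : γ * α * γ⁻¹ = 1) : α = 1 :=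
  conj_eq_one_iff.1 h

/-- The automorphism is trivial. -/
theorem trivial_of_w {n : ℕ} (hF : Fintype.card F = 3 ^ (2 * n + 1)) (hq : R.q = Fintype.card F)
    (hmax : IsCoatom (centralizer ({R.t} : Set K))) (hp2 : p ≠ 2) (hW : p ∣ R.q ^ 2 - R.q + 1) {α : MulAut K}
    (hα : α ^ p = 1) (ht : α R.t = R.t) (S : Sylow p K) (hS : ∀ y ∈ (S : Subgroup K), α y = y) : α = 1 := by
  haveI := R.S.lp.finiteP
  haveI : Fact (Nat.Prime 3) := ⟨Nat.prime_three⟩
  have h4 : 4 ≤ Fintype.card F := by rw [← hq]; have := R.q_ge; omega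
  obtain ⟨β, hβ⟩ := exists_restrict R h4 ht
  have hβp := restrict_order R hα hβ
  have hco : p.Coprime (R.q * (R.q ^ 2 - 1)) := R.coprime_w.coprime_dvd_left hW
  rcases psl_auto_cases hF hp2 hβp with ⟨k, rfl⟩ | ⟨hpe, L, i1, i2, hL, ⟨f⟩⟩
  · have hk : k ^ p = 1 := eq_one_of_center R h4 fun a => by
      have h := DFunLike.congr_fun hβp a
      rw [← map_pow, MulAut.conj_apply] at h
      exact mul_inv_eq_iff_eq_mul.1 h
    have hk1 : k = 1 := by
      refine orderOf_eq_one_iff.1 (Nat.eq_one_of_dvd_coprimes hco (orderOf_dvd_of_pow_eq_one hk)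
        ((orderOf_dvd_natCard k).trans ?_))
      rw [R.S.lp.card_P, R.sq_sub]
      exact ⟨2, by ring⟩
    refine eq_one_of_fix_C R hF hq hp2 hmax hα ht fun a => ?_
    rw [hβ, hk1, map_one]; rfl
  have he' : R.e = 2 * n + 1 := Nat.pow_right_injective (le_refl 2 |>.trans (by norm_num : 2 ≤ 3))
    (show 3 ^ R.e = 3 ^ (2 * n + 1) by rw [← R.q_three, hq, hF])
  have he : R.e = p * ((2 * n + 1) / p) := by rw [he', Nat.mul_div_cancel' hpe]
  have hodd : Odd R.e := ⟨n, he'⟩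
  set g := (2 * n + 1) / p with hg
  have hgodd : Odd g := (Nat.odd_mul.1 (he ▸ hodd)).2
  have hL4 : Fintype.card L % 4 = 3 := by
    obtain ⟨i, hi⟩ := hgodd
    rw [hL, hi, pow_succ, pow_mul, Nat.mul_mod, Nat.pow_mod]; norm_num
  by_cases hg1 : g = 1
  · obtain ⟨c, h0, h1⟩ := exists_pair R hW hα ht
    refine eq_one_of_conj (γ := (MulAut.conj c)⁻¹) ?_
    rw [inv_inv]
    refine fix_all R he hodd hp2 hW h0 h1 ((MulAut.conj c)⁻¹ • S) ?_ ⊥ bot_le
      (fun h hh => by rw [mem_bot.1 hh, map_one]) (by rw [card_bot, hg1]; norm_num)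
    have h := conj_fix (γ := (MulAut.conj c)⁻¹) hS
    rwa [inv_inv] at h
  -- the torus of the fixed points
  obtain ⟨pk⟩ := AbelTwo.ReeAbel.exists_pack (F := L) hL4
  have hY2 : 2 * Nat.card ↥pk.Y + 1 = 3 ^ g := by
    have h := pk.card_Y
    have h3 : 1 ≤ Fintype.card L := Fintype.card_pos
    rw [← hL]; omega
  set E : Subgroup (Matrix.ProjectiveSpecialLinearGroup (Fin 2) F) := β.toMonoidHom.eqLocus (MonoidHom.id _)
  let ψ : Matrix.ProjectiveSpecialLinearGroup (Fin 2) L →* Matrix.ProjectiveSpecialLinearGroup (Fin 2) F :=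
    E.subtype.comp f.symm.toMonoidHom
  have hψ : Function.Injective ψ := Subtype.val_injective.comp f.symm.injective
  have hψfix : ∀ a, β (ψ a) = ψ a := fun a => (f.symm a).2
  obtain ⟨y₀, hy₀, hy₀1⟩ : ∃ y ∈ pk.Y, y ≠ 1 := by
    by_contra hh
    push Not at hh
    have h' := hY2
    rw [(eq_bot_iff_forall _).2 hh, card_bot] at h'
    exact hg1 (Nat.pow_right_injective (by norm_num : 2 ≤ 3) (show 3 ^ g = 3 ^ 1 by rw [← h', pow_one]))
  have hdvdm : Nat.card ↥pk.Y ∣ R.m := by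
    have h := Nat.pow_sub_one_dvd_pow_sub_one 3 (show g ∣ R.e from Dvd.intro_left p he.symm)
    rw [← hY2, ← R.q_three, R.q_m, Nat.add_sub_cancel, Nat.add_sub_cancel] at h
    exact (Nat.mul_dvd_mul_iff_left two_pos).1 h
  have hyord : orderOf (ψ y₀) ∣ R.m :=
    (orderOf_injective ψ hψ y₀).symm ▸ (orderOf_dvd_natCard pk.Y hy₀).trans hdvdm
  have hy1 : ψ y₀ ≠ 1 := fun e => hy₀1 (hψ (e.trans (map_one ψ).symm))
  obtain ⟨c, hc⟩ := R.odd_class (R.m_odd.of_dvd_nat hyord) hy1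
  set y := c * ψ y₀ * c⁻¹ with hy
  have hne : y ≠ 1 := fun e => hy1 (conj_eq_one_iff.1 e)
  have hym : orderOf y ∣ R.m := by rwa [hy, Invol.orderOf_conj_eq]
  have hcY : y ∈ R.S.lp.K.Y := by
    have hone : ∀ {H : Subgroup (Matrix.ProjectiveSpecialLinearGroup (Fin 2) F)}, y ∈ H →
        Nat.Coprime R.m (Nat.card ↥H) → False := fun {H} hyH hcop =>
      hne (orderOf_eq_one_iff.1 (Nat.eq_one_of_dvd_coprimes hcop hym (orderOf_dvd_natCard H hyH)))
    rcases hc with h | h | h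
    · refine (hone h ?_).elim
      rw [R.S.lp.K.card_U, show R.S.lp.D.q = R.q from rfl, R.q_m, Nat.coprime_iff_gcd_eq_one, add_comm]
      simp
    · exact h
    · refine (hone h ?_).elim
      rw [R.S.lp.D.card_Y]
      exact R.S.lp.coprime_r_m.symm.coprime_mul_left_right
  set γ := MulAut.conj (R.ι c) with hγ
  have happ : ∀ a, (γ * α * γ⁻¹) (R.ι (c * ψ a * c⁻¹)) = R.ι (c * ψ a * c⁻¹) := fun a => by
    have e : γ⁻¹ (R.ι (c * ψ a * c⁻¹)) = R.ι (ψ a) := by
      rw [hγ, MulAut.inv_def, MulEquiv.symm_apply_eq, MulAut.conj_apply, map_mul, map_mul, map_inv]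
    rw [MulAut.mul_apply, MulAut.mul_apply, e, hβ, hψfix, hγ, MulAut.conj_apply, ← map_inv, ← map_mul, ← map_mul]
  obtain ⟨h0, h1⟩ := fix_points_of_y R hp2 (conj_pow_eq (γ := γ) hα) hcY hne (happ y₀)
  refine eq_one_of_conj (γ := γ) (fix_all R he hodd hp2 hW h0 h1 (γ • S) (conj_fix hS)
    (pk.Y.map ((R.ι.comp (MulAut.conj c).toMonoidHom).comp ψ)) ?_ ?_ ?_)
  · rintro _ ⟨a, ha, rfl⟩
    refine R.mem_Ym (R.S.lp.cent_torus hcY hne ?_)
    show c * ψ a * c⁻¹ * y = y * (c * ψ a * c⁻¹)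
    rw [hy, conj_mul, conj_mul, ← map_mul, ← map_mul, pk.Y_comm a ha y₀ hy₀]
  · rintro _ ⟨a, -, rfl⟩
    exact happ a
  · rw [card_map_of_injective ((R.S.B.inj.comp (MulAut.conj c).injective).comp hψ)]
    exact hY2

end Cfsg.Agent.Invol.IsolatedSfour.Ree
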