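import Cfsg.Agent.Lib.Invol.IsolatedSmall.LinearGood
import Cfsg.Agent.Lib.Invol.JankoWard.ExtField
import Cfsg.Agent.Lib.Invol.CycTI.Ree.Tori

/-!
# Automorphisms of a group of Ree type fixing the involution

Such an automorphism induces one of `L₂(q)`, which is inner or has fixed points `L₂(q₀)`. One centralising the
centraliser of the involution is trivial.
-/

set_option autoImplicit false
set_option linter.unusedSectionVars false
set_option linter.style.haveILetI false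

open scoped Classical

namespace Cfsg.Agent.Invol.IsolatedSfour.Ree

open Subgroup Cfsg.Agent.Classical Cfsg.Agent.Classical.PSLAut
open Cfsg.Agent.Invol.CycTI.Ree (Sys)

universe u

variable {F : Type} [Field F] [Fintype F] {p : ℕ} [hp : Fact p.Prime]

local notation "PSL₂" => Matrix.ProjectiveSpecialLinearGroup (Fin 2) F

/-- An automorphism of odd prime order of `L₂(3ᵉ)` is inner, or its fixed points form `L₂(3^(e/p))`. -/
theorem psl_auto_cases {e : ℕ} (hF : Fintype.card F = 3 ^ e) (hp2 : p ≠ 2) {β : MulAut PSL₂} (hβ : β ^ p = 1) :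
    β ∈ (MulAut.conj : PSL₂ →* MulAut PSL₂).range ∨
      (p ∣ e ∧ ∃ (K : Type) (_ : Field K) (_ : Fintype K), Fintype.card K = 3 ^ (e / p) ∧
        Nonempty (↥(β.toMonoidHom.eqLocus (MonoidHom.id PSL₂)) ≃* Matrix.ProjectiveSpecialLinearGroup (Fin 2) K)) := by
  haveI : Fact (Nat.Prime 3) := ⟨Nat.prime_three⟩
  haveI : CharP F 3 := charP_of_card_eq_prime_pow hF
  haveI : Finite (RingAut F) := Finite.of_injective (fun τ => (τ : F → F)) DFunLike.coe_injective
  obtain ⟨g, σ, hσ, hβg⟩ := IsolatedSmall.exists_semi (n := 2) le_rfl hp2 hβ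
  by_cases hσ1 : σ = 1
  · subst hσ1
    refine Or.inl (IsolatedSmall.inner_of_coprime hβ (D := (inndiagHom 2 F).range) ⟨g, by rw [hβg]; rfl⟩ ?_)
    rw [(outDiag le_rfl).2]
    intro h
    exact hp2 ((Nat.prime_dvd_prime_iff_eq hp.out Nat.prime_two).1 (h.trans (Nat.gcd_dvd_left _ _)))
  have hordσ : orderOf σ = p := orderOf_eq_prime hσ hσ1
  have hordβ : orderOf β = p := orderOf_eq_prime hβ fun h => hσ1 (by
    rw [hβg, pslSemi_eq_one_iff le_rfl] at h
    exact h.1)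
  have h := JankoWard.PSLField.fixed_iso (p := 3) hF (by norm_num) hβg
    (by rw [hordβ]; exact hp.out.odd_of_ne_two hp2) (hordσ.trans hordβ.symm)
  rw [hordβ] at h
  exact Or.inr h

variable {K : Type u} [Group K] [Finite K] (R : Sys K (Matrix.ProjectiveSpecialLinearGroup (Fin 2) F))

/-- The second factor is simple. -/
theorem psl_simple (h4 : 4 ≤ Fintype.card F) : IsSimpleGroup PSL₂ := PSL_isSimple le_rfl fun _ => h4

/-- An automorphism fixing the involution induces one of the second factor. -/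
theorem exists_restrict (h4 : 4 ≤ Fintype.card F) {α : MulAut K} (ht : α R.t = R.t) :
    ∃ β : MulAut PSL₂, ∀ k, α (R.ι k) = R.ι (β k) := by
  haveI := R.S.lp.finiteP
  have hC : ∀ k, α (R.ι k) * R.t = R.t * α (R.ι k) := fun k => by
    calc α (R.ι k) * R.t = α (R.ι k) * α R.t := by rw [ht]
      _ = α (R.t * R.ι k) := by rw [← map_mul, R.tc]
      _ = R.t * α (R.ι k) := by rw [map_mul, ht]
  let H : Subgroup PSL₂ := R.ι.range.comap (α.toMonoidHom.comp R.ι)
  have hsq : ∀ k : PSL₂, k * k ∈ H := fun k => by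
    show α (R.ι (k * k)) ∈ R.ι.range
    obtain ⟨j, hj | hj⟩ := R.S.B.cover _ (hC k)
    · exact ⟨j * j, by rw [map_mul, map_mul R.ι, map_mul α, hj]⟩
    · refine ⟨j * j, ?_⟩
      rw [map_mul R.ι, map_mul R.ι, map_mul α, hj, show R.S.B.t * R.S.B.ι j * (R.S.B.t * R.S.B.ι j) =
        R.S.B.t * (R.S.B.ι j * R.S.B.t) * R.S.B.ι j by group, R.S.B.tc, ← mul_assoc, R.S.B.tt, one_mul]
  haveI := psl_simple (F := F) h4
  have htop : ∀ k, k ∈ H := by
    let S : Subgroup PSL₂ := closure (Set.range fun k : PSL₂ => k * k)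
    have hS : S.Normal := by
      refine ⟨fun x hx c => ?_⟩
      induction hx using Subgroup.closure_induction with
      | mem x hx =>
        obtain ⟨k, rfl⟩ := hx
        exact subset_closure ⟨c * k * c⁻¹, conj_mul⟩
      | one => simp
      | mul a b _ _ ha hb => simpa [mul_assoc] using mul_mem ha hb
      | inv a _ ha => simpa [mul_assoc] using inv_mem ha
    have hle : S ≤ H := (closure_le _).2 (by rintro _ ⟨k, rfl⟩; exact hsq k)
    obtain ⟨y, hy, hy1⟩ := R.exists_z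
    rcases hS.eq_bot_or_eq_top with h | h
    · have hyy : y * y ∈ S := subset_closure ⟨y, rfl⟩
      rw [h, mem_bot] at hyy
      exact absurd hyy (Sys.sq_ne_one (R.S.lp.D.odd_Y hy) hy1)
    · exact fun k => hle (h ▸ mem_top k)
  choose f hf' using fun k => (htop k : α (R.ι k) ∈ R.ι.range)
  have hf : ∀ k, R.S.B.ι (f k) = α (R.S.B.ι k) := hf'
  let φ : PSL₂ →* PSL₂ := MonoidHom.mk' f fun a b => R.S.B.inj (by
    rw [hf, map_mul, map_mul, map_mul, hf, hf])
  have hφ : Function.Injective φ := fun a b h => R.S.B.inj (α.injective (by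
    rw [← hf, ← hf]; exact congrArg R.ι h))
  exact ⟨MulEquiv.ofBijective φ ⟨hφ, Finite.surjective_of_injective hφ⟩, fun k => (hf k).symm⟩

/-- The powers. -/
theorem restrict_pow {α : MulAut K} {β : MulAut PSL₂} (h : ∀ k, α (R.ι k) = R.ι (β k)) :
    ∀ (n : ℕ) (k : PSL₂), (α ^ n) (R.ι k) = R.ι ((β ^ n) k) := by
  intro n
  induction n with
  | zero => intro k; rfl
  | succ n ih => intro k; rw [pow_succ, pow_succ, MulAut.mul_apply, MulAut.mul_apply, h, ih]

theorem restrict_order {α : MulAut K} (hα : α ^ p = 1) {β : MulAut PSL₂} (h : ∀ k, α (R.ι k) = R.ι (β k)) :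
    β ^ p = 1 := MulEquiv.ext fun k => R.S.B.inj (by rw [← restrict_pow R h p k, hα]; rfl)

include R in
theorem eq_one_of_center (h4 : 4 ≤ Fintype.card F) {k : PSL₂} (h : ∀ a, k * a = a * k) : k = 1 := by
  haveI := psl_simple (F := F) h4
  rcases (inferInstance : (center PSL₂).Normal).eq_bot_or_eq_top with e | e
  · have hk : k ∈ center PSL₂ := mem_center_iff.2 fun a => (h a).symm
    rwa [e, mem_bot] at hk
  exfalso
  obtain ⟨y, hy, hy1⟩ := R.exists_z
  have hwy : R.S.lp.D.w * y = y * R.S.lp.D.w := mem_center_iff.1 (e ▸ mem_top y) R.S.lp.D.w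
  have h1 := R.S.lp.D.w_Y y hy
  rw [hwy, mul_inv_cancel_right] at h1
  refine Sys.sq_ne_one (R.S.lp.D.odd_Y hy) hy1 ?_
  nth_rewrite 1 [h1]
  exact inv_mul_cancel y

/-- An automorphism of the second factor fixing the torus and an element inverting it is trivial. -/
theorem psl_fix_torus {e : ℕ} (hF : Fintype.card F = 3 ^ e) (hq : R.q = Fintype.card F) (hp2 : p ≠ 2)
    {β : MulAut PSL₂} (hβ : β ^ p = 1) (hY : ∀ y ∈ R.S.lp.D.Y, β y = y) {w : PSL₂}
    (hw : ∀ y ∈ R.S.lp.D.Y, w * y * w⁻¹ = y⁻¹) (hwf : β w = w) : β = 1 := by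
  haveI := R.S.lp.finiteP
  have h4 : 4 ≤ Fintype.card F := by rw [← hq]; have := R.q_ge; omega
  set D := R.S.lp.D with hD
  rcases psl_auto_cases hF hp2 hβ with ⟨k, rfl⟩ | ⟨hpe, L, i1, i2, hL, ⟨f⟩⟩
  · obtain ⟨y, hy, hy1⟩ := R.exists_z
    obtain ⟨z, hz, hz'⟩ := D.cent_Y y hy hy1 k (mul_inv_eq_iff_eq_mul.1 (hY y hy))
    have hkp : k ^ p = 1 := eq_one_of_center R h4 fun a => by
      have h := DFunLike.congr_fun hβ a
      rw [← map_pow, MulAut.conj_apply] at h
      exact mul_inv_eq_iff_eq_mul.1 h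
    have hkz : k = z := by
      rcases hz' with h | h
      · exact h
      exfalso
      rw [h, (show Commute D.u z from D.u_Y z hz).mul_pow] at hkp
      obtain ⟨d, hd⟩ := hp.out.odd_of_ne_two hp2
      rw [hd, pow_succ D.u, pow_mul, pow_two, D.u2, one_pow, one_mul, ← hd] at hkp
      have hu : D.u ∈ D.Y := by rw [eq_inv_of_mul_eq_one_left hkp]; exact inv_mem (pow_mem hz _)
      have h2 := D.odd_Y hu
      rw [orderOf_eq_prime (by rw [pow_two, D.u2]) D.u1] at h2
      exact absurd h2 (by decide)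
    subst hkz
    have h1 := hw k hz
    have h2 : k * w = w * k := mul_inv_eq_iff_eq_mul.1 hwf
    rw [← h2, mul_inv_cancel_right] at h1
    have hk1 : k = 1 := by
      by_contra hk1
      refine Sys.sq_ne_one (D.odd_Y hz) hk1 ?_
      nth_rewrite 1 [h1]
      exact inv_mul_cancel k
    rw [hk1, map_one]
  exfalso
  haveI : Fact (Nat.Prime 3) := ⟨Nat.prime_three⟩
  have hodd : Odd (Fintype.card L) := by rw [hL]; exact (by decide : Odd 3).pow
  have hY' : R.r ∣ Nat.card (Matrix.ProjectiveSpecialLinearGroup (Fin 2) L) := by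
    rw [← Nat.card_congr f.toEquiv, show R.r = Nat.card ↥D.Y from D.card_Y.symm]
    exact card_dvd_of_le fun y hy => hY y hy
  have hd := hY'.mul_left 2
  rw [Invol.GW.card_PSLTwo hodd, hL] at hd
  replace hd : R.r ∣ 3 ^ (e / p) * ((3 ^ (e / p) - 1) * (3 ^ (e / p) + 1)) := hd
  set q₀ := 3 ^ (e / p) with hq₀
  -- `r` divides `q₀ + 1`
  have hdvd : q₀ - 1 ∣ R.q - 1 := by
    rw [hq, hF, hq₀]
    exact Nat.pow_sub_one_dvd_pow_sub_one 3 (Nat.div_dvd_of_dvd hpe)
  have hco1 : Nat.Coprime R.r (q₀ - 1) := by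
    refine Nat.Coprime.coprime_dvd_right hdvd ?_
    rw [show R.q - 1 = 2 * R.m by have := R.q_m; omega]
    exact (Nat.Coprime.mul_right ((Nat.coprime_two_right).2 R.r_odd)
      (Nat.Coprime.coprime_mul_left R.S.lp.coprime_r_m))
  have hco3 : Nat.Coprime R.r q₀ :=
    ((Nat.prime_three.coprime_iff_not_dvd.2 R.S.lp.not_three_dvd_r).symm).pow_right _
  have hr : R.r ∣ q₀ + 1 := (hco1.dvd_of_dvd_mul_left (hco3.dvd_of_dvd_mul_left hd))
  have hle := Nat.le_of_dvd (by omega) hr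
  have hq3 : q₀ ^ 3 ≤ R.q := by
    rw [hq, hF, hq₀, ← pow_mul]
    refine Nat.pow_le_pow_right (by norm_num) ?_
    calc e / p * 3 ≤ e / p * p := Nat.mul_le_mul_left _ (by have := hp.out.two_le; omega)
      _ ≤ e := Nat.div_mul_le_self e p
  have h3 : 3 ≤ q₀ := by
    rw [hq₀]
    refine le_trans (le_of_eq (pow_one 3).symm) (Nat.pow_le_pow_right (by norm_num) (Nat.div_pos (Nat.le_of_dvd ?_ hpe) hp.out.pos))
    rcases Nat.eq_zero_or_pos e with h0 | h0
    · rw [h0, pow_zero] at hF; omega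
    · exact h0
  have h9 := Nat.mul_le_mul h3 h3
  have := R.q_r
  nlinarith

/-- An automorphism of order dividing `p` centralising the centraliser of the involution is trivial. -/
theorem eq_one_of_fix_C {e : ℕ} (hF : Fintype.card F = 3 ^ e) (hq : R.q = Fintype.card F) (hp2 : p ≠ 2)
    (hmax : IsCoatom (centralizer ({R.t} : Set K))) {δ : MulAut K} (hδ : δ ^ p = 1) (ht : δ R.t = R.t)
    (hι : ∀ k, δ (R.ι k) = R.ι k) : δ = 1 := by
  haveI := R.S.lp.finiteP
  have h4 : 4 ≤ Fintype.card F := by rw [← hq]; have := R.q_ge; omega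
  have hD := R.S.hBD
  set g := R.S.loc.g with hg
  have hgt : g * R.t * g⁻¹ = R.ι R.S.lp.D.u := by rw [hg, ← hD]; exact R.S.loc.gt
  set c := MulAut.conj g with hc
  set δ' : MulAut K := c⁻¹ * δ * c with hδ'
  have happ : ∀ x, δ' x = g⁻¹ * δ (g * x * g⁻¹) * g := fun x => by simp [hδ', hc]
  have ht' : δ' R.t = R.t := by
    rw [happ, hgt, hι, ← hgt]; group
  have hp' : δ' ^ p = 1 := by
    rw [hδ', show c⁻¹ * δ * c = c⁻¹ * δ * c⁻¹⁻¹ by rw [inv_inv], conj_pow, hδ]; group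
  obtain ⟨β, hβ⟩ := exists_restrict R h4 ht'
  have hfix : ∀ {k : PSL₂}, δ' (R.ι k) = R.ι k → β k = k := fun {k} h => R.S.B.inj ((hβ k).symm.trans h)
  -- the inverting element
  have hv : g⁻¹ * R.ι R.S.lp.D.w * g * R.t = R.t * (g⁻¹ * R.ι R.S.lp.D.w * g) := by
    have h : R.ι R.S.lp.D.w * (g * R.t * g⁻¹) = g * R.t * g⁻¹ * R.ι R.S.lp.D.w := by
      rw [hgt, ← map_mul, ← map_mul, R.S.lp.D.comm]
    calc g⁻¹ * R.ι R.S.lp.D.w * g * R.t = g⁻¹ * (R.ι R.S.lp.D.w * (g * R.t * g⁻¹)) * g := by group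
      _ = _ := by rw [h]; group
  have hvfix : δ' (g⁻¹ * R.ι R.S.lp.D.w * g) = g⁻¹ * R.ι R.S.lp.D.w * g := by
    rw [happ, show g * (g⁻¹ * R.ι R.S.lp.D.w * g) * g⁻¹ = R.ι R.S.lp.D.w by group, hι]
  obtain ⟨w, hw⟩ := R.S.B.cover _ hv
  have hwf : β w = w := by
    refine hfix ?_
    rcases hw with h | h <;> rw [h] at hvfix
    · exact hvfix
    · rw [map_mul, show δ' R.S.B.t = R.S.B.t from ht'] at hvfix
      exact mul_left_cancel hvfix
  have hgY : ∀ y ∈ R.S.lp.D.Y, ∃ y' ∈ R.S.lp.D.Y, g * R.ι y * g⁻¹ = R.ι y' := fun y hy => by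
    obtain ⟨y', hy', h⟩ := R.S.loc.gY y (by rw [hD]; exact hy)
    exact ⟨y', hD ▸ hy', h⟩
  have hY : ∀ y ∈ R.S.lp.D.Y, β y = y := fun y hy => by
    obtain ⟨y', -, h⟩ := hgY y hy
    refine hfix ?_
    rw [happ, h, hι, ← h]; group
  have hwY : ∀ y ∈ R.S.lp.D.Y, w * y * w⁻¹ = y⁻¹ := fun y hy => by
    obtain ⟨y', hy', h⟩ := hgY y hy
    have h1 : g⁻¹ * R.ι R.S.lp.D.w * g * R.ι y * (g⁻¹ * R.ι R.S.lp.D.w * g)⁻¹ = (R.ι y)⁻¹ := by
      calc _ = g⁻¹ * (R.ι R.S.lp.D.w * (g * R.ι y * g⁻¹) * (R.ι R.S.lp.D.w)⁻¹) * g := by group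
        _ = g⁻¹ * (g * R.ι y * g⁻¹)⁻¹ * g := by
          rw [h, ← map_inv, ← map_mul, ← map_mul, R.S.lp.D.w_Y y' hy', map_inv]
        _ = _ := by group
    refine R.S.B.inj ?_
    rw [map_mul, map_mul, map_inv, map_inv]
    rcases hw with e | e <;> rw [e] at h1
    · exact h1
    · rw [show R.S.B.t * R.S.B.ι w * R.S.B.ι y * (R.S.B.t * R.S.B.ι w)⁻¹ =
        R.S.B.t * (R.S.B.ι w * R.S.B.ι y * (R.S.B.ι w)⁻¹) * R.S.B.t⁻¹ by group] at h1
      have h2 := congrArg (fun a => R.S.B.t⁻¹ * a * R.S.B.t) h1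
      rw [show R.S.B.t⁻¹ * (R.S.B.t * (R.S.B.ι w * R.S.B.ι y * (R.S.B.ι w)⁻¹) * R.S.B.t⁻¹) * R.S.B.t =
        R.S.B.ι w * R.S.B.ι y * (R.S.B.ι w)⁻¹ by group] at h2
      rw [h2, ← map_inv, mul_assoc, R.S.B.tc, ← mul_assoc, inv_mul_cancel, one_mul]
  have hβ1 := psl_fix_torus R hF hq hp2 (restrict_order R hp' hβ) hY hwY hwf
  -- the fixed subgroup
  set E := δ.toMonoidHom.eqLocus (MonoidHom.id K) with hE
  have hCE : centralizer ({R.t} : Set K) ≤ E := fun x hx => by
    obtain ⟨k, rfl | rfl⟩ := R.S.B.cover x (mem_centralizer_singleton_iff.1 hx)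
    · exact hι k
    · exact mul_mem (show R.t ∈ E from ht) (show R.ι k ∈ E from hι k)
  have hCu : centralizer ({R.ι R.S.lp.D.u} : Set K) ≤ E := fun x hx => by
    have h1 : g⁻¹ * x * g * R.t = R.t * (g⁻¹ * x * g) := by
      have h := mem_centralizer_singleton_iff.1 hx
      rw [← hgt] at h
      calc g⁻¹ * x * g * R.t = g⁻¹ * (x * (g * R.t * g⁻¹)) * g := by group
        _ = _ := by rw [h]; group
    have h2 : δ' (g⁻¹ * x * g) = g⁻¹ * x * g := by
      obtain ⟨k, h | h⟩ := R.S.B.cover _ h1 <;> rw [h]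
      · rw [hβ, hβ1]; rfl
      · rw [map_mul, hβ, hβ1, show δ' R.S.B.t = R.S.B.t from ht']; rfl
    rw [happ, show g * (g⁻¹ * x * g) * g⁻¹ = x by group] at h2
    exact mul_left_cancel (mul_right_cancel h2)
  have hnle : ¬ centralizer ({R.ι R.S.lp.D.u} : Set K) ≤ centralizer ({R.t} : Set K) := fun hle => by
    have he : centralizer ({R.ι R.S.lp.D.u} : Set K) = centralizer ({R.t} : Set K) := by
      refine eq_of_le_of_card_ge hle (le_of_eq ?_)
      rw [← hgt, Sys.cent_conj_card]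
    refine R.S.lp.D.u1 (eq_one_of_center R h4 fun a => R.S.B.inj ?_)
    have h : R.ι a ∈ centralizer ({R.ι R.S.lp.D.u} : Set K) := he ▸ mem_centralizer_singleton_iff.2 (R.tc a)
    rw [map_mul, map_mul]
    exact (mem_centralizer_singleton_iff.1 h).symm
  rcases eq_or_lt_of_le hCE with h | h
  · exact absurd (h ▸ hCu) hnle
  · have htop := hmax.2 E h
    exact MulEquiv.ext fun x => (htop ▸ mem_top x : x ∈ E)

end Cfsg.Agent.Invol.IsolatedSfour.Ree
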