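import Cfsg.Agent.Lib.Invol.IsolatedSfour.Ree.WTorus
import Cfsg.Agent.Lib.Invol.IsolatedSfour.Ree.Data
import Cfsg.Agent.Lib.Invol.IsolatedSfour.Gold

/-!
# Groups of Ree type are good

No element of odd prime order is isolated, and an automorphism of that order centralising a Sylow subgroup is inner.
-/

set_option autoImplicit false
set_option linter.unusedSectionVars false
set_option linter.style.haveILetI false

open scoped Classical

namespace Cfsg.Agent.Invol.IsolatedSfour.Ree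

open Subgroup
open Cfsg.Agent.Invol.CycTI.Ree (Sys)

universe u

variable {F : Type} [Field F] [Fintype F] {p : ℕ} [hp : Fact p.Prime] {K : Type u} [Group K] [Finite K]
  (R : Sys K (Matrix.ProjectiveSpecialLinearGroup (Fin 2) F))

include hp

/-- The primes of the order. -/
theorem prime_split (hp2 : p ≠ 2) (hd : p ∣ Nat.card K) :
    p = 3 ∨ p ∣ R.m ∨ p ∣ R.r ∨ p ∣ R.q ^ 2 - R.q + 1 := by
  rw [R.card_G] at hd
  rcases hp.out.dvd_mul.1 hd with h | h
  · have h' : p ∣ R.q * (R.q ^ 2 - 1) := by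
      rcases hp.out.dvd_mul.1 h with h | h
      · exact (hp.out.dvd_of_dvd_pow h).mul_right _
      · exact h.mul_left _
    rcases R.prime_cases hp.out h' with h | h | h | h
    · exact absurd h hp2
    · exact Or.inl h
    · exact Or.inr (Or.inl h)
    · exact Or.inr (Or.inr (Or.inl h))
  · exact Or.inr (Or.inr (Or.inr h))

include R in
/-- No element of odd prime order is isolated. -/
theorem not_isolated {n : ℕ} (hF : Fintype.card F = 3 ^ (2 * n + 1)) (hp2 : p ≠ 2) {k : K} (hk : orderOf k = p) :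
    ¬ Cfsg.IsIsolated k := by
  intro hiso
  have hd : p ∣ Nat.card K := hk ▸ orderOf_dvd_natCard k
  have key : ∀ {c h₀ v : K}, c * k * c⁻¹ = h₀ → v * h₀ * v⁻¹ = h₀⁻¹ → False := fun {c h₀ v} e hv => by
    refine IsolatedSmall.isolated_not_inverted (h := c⁻¹ * v * c) hiso hk hp2 ?_
    rw [show c⁻¹ * v * c * k * (c⁻¹ * v * c)⁻¹ = c⁻¹ * (v * (c * k * c⁻¹) * v⁻¹) * c by group, e, hv, ← e]
    group
  rcases prime_split R hp2 hd with rfl | hm | hr | hw
  · obtain ⟨k', hiso', hk', hc⟩ := IsolatedSmall.exists_isolated_commute hiso hk R.hQ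
    have hkQ : k' ∈ R.Q := cent_Q_le R fun a ha => (hc a ha).eq
    haveI : Fintype K := Fintype.ofFinite K
    obtain ⟨y, hy, hy1⟩ := PiHom.Ree.exists_y R
    have hyN := Invol.isolated_normalizer_le hiso' R.hQ hkQ (R.hT (R.Ym_le (R.mem_Ym hy)))
    have h1 := R.y_fpf hy hy1 hkQ (mem_centralizer_singleton_iff.1 hyN)
    rw [h1, orderOf_one] at hk'
    omega
  · obtain ⟨c, y, hy, -, e⟩ := R.class_m hp.out hm hk
    exact key e (R.S.w_y hy)
  · obtain ⟨c, y, hy, -, e⟩ := R.class_r hp.out hr hk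
    refine key (v := R.ι R.S.lp.D.w) e ?_
    rw [← map_inv, ← map_inv, ← map_mul, ← map_mul, R.S.lp.D.w_Y y hy]
  · obtain ⟨h, hh⟩ := exists_inverter R hF hw hk
    exact IsolatedSmall.isolated_not_inverted hiso hk hp2 hh

/-- An automorphism fixing the involution and a Sylow subgroup of the second factor is inner. -/
theorem inner_of_fix {n : ℕ} (hF : Fintype.card F = 3 ^ (2 * n + 1)) (hq : R.q = Fintype.card F)
    (hmax : IsCoatom (centralizer ({R.t} : Set K))) (hp2 : p ≠ 2)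
    (hdvd : p ∣ Nat.card (Matrix.ProjectiveSpecialLinearGroup (Fin 2) F)) {α : MulAut K} (hα : α ^ p = 1)
    (ht : α R.t = R.t) (S : Sylow p (Matrix.ProjectiveSpecialLinearGroup (Fin 2) F))
    (hS : ∀ k ∈ (S : Subgroup (Matrix.ProjectiveSpecialLinearGroup (Fin 2) F)), α (R.ι k) = R.ι k) :
    α ∈ (MulAut.conj : K →* MulAut K).range := by
  have h4 : 4 ≤ Fintype.card F := by rw [← hq]; have := R.q_ge; omega
  obtain ⟨β, hβ⟩ := exists_restrict R h4 ht
  have hβp := restrict_order R hα hβ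
  obtain ⟨k, hk⟩ := (IsolatedSmall.psl_good (Or.inl ⟨rfl, h4⟩) hp2 hdvd).2 β hβp S
    fun y hy => R.S.B.inj ((hβ y).symm.trans (hS y hy))
  subst hk
  have hkp : k ^ p = 1 := eq_one_of_center R h4 fun a => by
    have h := DFunLike.congr_fun hβp a
    rw [← map_pow, MulAut.conj_apply] at h
    exact mul_inv_eq_iff_eq_mul.1 h
  have hαk : α (R.ι k) = R.ι k := by rw [hβ, MulAut.conj_apply, mul_inv_cancel_right]
  have hcomm : Commute (MulAut.conj (R.ι k))⁻¹ α := (show Commute (MulAut.conj (R.ι k)) α from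
    MulEquiv.ext fun y => by simp [MulAut.mul_apply, hαk]).inv_left
  have h1 : (MulAut.conj (R.ι k))⁻¹ * α = 1 := by
    refine eq_one_of_fix_C R hF hq hp2 hmax ?_ ?_ fun a => ?_
    · rw [hcomm.mul_pow, inv_pow, ← map_pow, ← map_pow, hkp, map_one, map_one, inv_one, one_mul, hα]
    · rw [MulAut.mul_apply, ht, MulAut.inv_def, MulEquiv.symm_apply_eq, MulAut.conj_apply, R.tc, mul_inv_cancel_right]
    · rw [MulAut.mul_apply, hβ, MulAut.inv_def, MulEquiv.symm_apply_eq, MulAut.conj_apply, MulAut.conj_apply, map_mul,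
        map_mul, map_inv]
  exact ⟨R.ι k, (inv_mul_eq_one.1 h1)⟩

/-- An automorphism fixing an element of a torus of the involution, and its Sylow subgroup. -/
theorem inner_of_local [IsSimpleGroup K] {n : ℕ} (hF : Fintype.card F = 3 ^ (2 * n + 1)) (hq : R.q = Fintype.card F)
    (hmax : IsCoatom (centralizer ({R.t} : Set K))) (hp2 : p ≠ 2) (hd : p ∣ R.m ∨ p ∣ R.r) {α : MulAut K}
    (hα : α ^ p = 1) (S : Sylow p K) (hS : ∀ y ∈ (S : Subgroup K), α y = y) :
    α ∈ (MulAut.conj : K →* MulAut K).range := by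
  haveI : ((MulAut.conj : K →* MulAut K).range).Normal := (inferInstance : (Cfsg.Inn K).Normal)
  haveI := R.S.lp.finiteP
  obtain ⟨y, hy, hyo⟩ : ∃ y, (y ∈ R.S.lp.K.Y ∨ (y ∈ R.S.lp.D.Y ∧ 5 ≤ p)) ∧ orderOf y = p := by
    rcases hd with h | h
    · obtain ⟨⟨y, hy⟩, hyo⟩ := exists_prime_orderOf_dvd_card' (G := ↥R.S.lp.K.Y) p (by rw [R.S.lp.card_Y]; exact h)
      rw [orderOf_mk] at hyo
      exact ⟨y, Or.inl hy, hyo⟩
    · obtain ⟨⟨y, hy⟩, hyo⟩ := exists_prime_orderOf_dvd_card' (G := ↥R.S.lp.D.Y) p (by rw [R.S.lp.D.card_Y]; exact h)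
      rw [orderOf_mk] at hyo
      refine ⟨y, Or.inr ⟨hy, ?_⟩, hyo⟩
      have h3 : p ≠ 3 := fun e => R.S.lp.not_three_dvd_r (e ▸ h)
      have h4 : p ≠ 4 := fun e => absurd (e ▸ hp.out) (by norm_num)
      have := hp.out.two_le
      omega
  have hy1 : y ≠ 1 := fun e => by rw [e, orderOf_one] at hyo; exact hp.out.ne_one hyo.symm
  obtain ⟨T, hT⟩ := (IsPGroup.of_card (p := p) (G := zpowers y) (n := 1)
    (by rw [Nat.card_zpowers, hyo, pow_one])).exists_le_sylow
  obtain ⟨h, hh⟩ := IsolatedSmall.exists_conj_fix hS (T.isPGroup'.map R.ι)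
  refine IsolatedSmall.mem_of_conj (β := MulAut.conj h) ?_
  have hφ : (MulAut.conj h * α * (MulAut.conj h)⁻¹) ^ p = 1 := conj_pow_eq hα
  revert hh hφ
  generalize MulAut.conj h * α * (MulAut.conj h)⁻¹ = φ
  intro hfix hφ
  have hfy : φ (R.ι y) = R.ι y := hfix _ (mem_map_of_mem _ (hT (mem_zpowers y)))
  refine inner_of_fix R hF hq hmax hp2 (hyo ▸ orderOf_dvd_natCard y) hφ ?_ T
    fun k hk => hfix _ (mem_map_of_mem _ hk)
  have hct : ∀ s : K, s * R.ι y = R.ι y * s → φ s * R.ι y = R.ι y * φ s := fun s hs => by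
    rw [← hfy, ← map_mul, ← map_mul, hs]
  have ho : ∀ s : K, orderOf s = 2 → orderOf (φ s) = 2 := fun s hs => (MulEquiv.orderOf_eq φ s).trans hs
  have ht0 : R.t * R.ι y = R.ι y * R.t := (R.tc y).symm
  rcases hy with hy | ⟨hy, h5⟩
  · exact eq_t_of_mem R (R.cent_ym hy hy1 (hct _ ht0)) (ho _ R.ord_t)
  -- the orbit among the three involutions of the torus
  haveI : Fintype K := Fintype.ofFinite K
  have hit : ∀ j : ℕ, (φ ^ j) R.t * R.ι y = R.ι y * (φ ^ j) R.t ∧ orderOf ((φ ^ j) R.t) = 2 := by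
    intro j
    induction j with
    | zero => exact ⟨ht0, R.ord_t⟩
    | succ j ih => rw [pow_succ', MulAut.mul_apply]; exact ⟨hct _ ih.1, ho _ ih.2⟩
  have hthree : ∀ j : ℕ, (φ ^ j) R.t = R.t ∨ (φ ^ j) R.t = R.u ∨ (φ ^ j) R.t = R.t * R.u := fun j => by
    rcases PiHom.Ree.Cz_invol R (R.cent_z_mem hy hy1 (hit j).1)
      (by rw [← pow_two]; exact orderOf_dvd_iff_pow_eq_one.1 (hit j).2.dvd) with e | e | e | e
    · have h2 := (hit j).2
      rw [e, orderOf_one] at h2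
      omega
    · exact Or.inl e
    · exact Or.inr (Or.inl e)
    · exact Or.inr (Or.inr e)
  let σ : Fin p → Fin 3 := fun j => if (φ ^ (j : ℕ)) R.t = R.t then 0 else if (φ ^ (j : ℕ)) R.t = R.u then 1 else 2
  obtain ⟨a, b, hab, he⟩ := Fintype.exists_ne_map_eq_of_card_lt σ (by simp; omega)
  have heq : (φ ^ (a : ℕ)) R.t = (φ ^ (b : ℕ)) R.t := by
    rcases hthree a with ea | ea | ea <;> rcases hthree b with eb | eb | eb <;> rw [ea, eb] <;>
      simp only [σ, ea, eb] at he <;> (revert he; split_ifs <;> simp_all)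
  have main : ∀ {a b : ℕ}, a < b → b < p → (φ ^ a) R.t = (φ ^ b) R.t → φ R.t = R.t := by
    intro a b hlt hb heq
    have hd : (φ ^ (b - a)) R.t = R.t := by
      refine (φ ^ a).injective ?_
      rw [← MulAut.mul_apply, ← pow_add, Nat.add_sub_cancel' hlt.le]
      exact heq.symm
    have hnd : ¬ p ∣ b - a := fun h => by have := Nat.le_of_dvd (by omega) h; omega
    obtain ⟨i, hi0, hi1⟩ := Nat.chineseRemainder (hp.out.coprime_iff_not_dvd.2 hnd).symm 0 1
    obtain ⟨i', rfl⟩ := Nat.modEq_zero_iff_dvd.1 hi0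
    have e : φ ^ ((b - a) * i') = φ := by
      conv_rhs => rw [← pow_one φ]
      exact pow_eq_pow_iff_modEq.2 (hi1.of_dvd (orderOf_dvd_of_pow_eq_one hφ))
    have hfp : ∀ i : ℕ, ((φ ^ (b - a)) ^ i) R.t = R.t := by
      intro i
      induction i with
      | zero => rfl
      | succ i ih => rw [pow_succ', MulAut.mul_apply, ih, hd]
    have h := hfp i'
    rwa [← pow_mul, e] at h
  rcases lt_or_gt_of_ne (fun e => hab (Fin.ext e) : (a : ℕ) ≠ (b : ℕ)) with h | h
  · exact main h b.2 heq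
  · exact main h a.2 heq.symm

omit hp in
/-- The prime three. -/
theorem inner_of_three [IsSimpleGroup K] {n : ℕ} (hF : Fintype.card F = 3 ^ (2 * n + 1)) (hq : R.q = Fintype.card F)
    (hmax : IsCoatom (centralizer ({R.t} : Set K))) {α : MulAut K}
    (hα : α ^ 3 = 1) [Fact (Nat.Prime 3)] (S : Sylow 3 K) (hS : ∀ y ∈ (S : Subgroup K), α y = y) :
    α ∈ (MulAut.conj : K →* MulAut K).range := by
  haveI : ((MulAut.conj : K →* MulAut K).range).Normal := (inferInstance : (Cfsg.Inn K).Normal)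
  haveI := R.S.lp.finiteP
  obtain ⟨h, hh⟩ := IsolatedSmall.exists_conj_fix hS R.hQ
  refine IsolatedSmall.mem_of_conj (β := MulAut.conj h) ?_
  have hφ : (MulAut.conj h * α * (MulAut.conj h)⁻¹) ^ 3 = 1 := conj_pow_eq hα
  revert hh hφ
  generalize MulAut.conj h * α * (MulAut.conj h)⁻¹ = φ
  intro hfix hφ
  set z := R.t⁻¹ * φ R.t with hzdef
  have hta : φ R.t = R.t * z := by rw [hzdef, mul_inv_cancel_left]
  have hzc : ∀ a ∈ R.Q, z * a = a * z := fun a ha => by
    have h1 : R.t * a * R.t⁻¹ ∈ R.Q := (mem_normalizer_iff.1 (R.hT R.t_mem) a).1 ha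
    have h2 := hfix _ h1
    rw [map_mul, map_mul, map_inv, hfix a ha, hta] at h2
    refine mul_inv_eq_iff_eq_mul.1 ?_
    calc z * a * z⁻¹ = R.t⁻¹ * (R.t * z * a * (R.t * z)⁻¹) * R.t := by group
      _ = a := by rw [h2]; group
  have hzQ : z ∈ R.Q := cent_Q_le R hzc
  have hz2 : R.t * z * R.t⁻¹ = z⁻¹ := by
    refine eq_inv_of_mul_eq_one_left ?_
    calc R.t * z * R.t⁻¹ * z = R.t * z * (R.t * z) := by rw [R.S.t_inv]; group
      _ = φ (R.t * R.t) := by rw [map_mul, hta]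
      _ = 1 := by rw [R.tt, map_one]
  set i := (3 ^ (3 * R.e) + 1) / 2 with hi
  have hz2i : z ^ (2 * i) = z := by
    obtain ⟨d, hd⟩ : Odd (3 ^ (3 * R.e)) := (by decide : Odd 3).pow
    rw [hi, hd, show 2 * ((2 * d + 1 + 1) / 2) = 2 * d + 1 + 1 by omega, pow_succ, ← hd, R.pow_Q hzQ, one_mul]
  set z' := z ^ i with hz'
  have hz'Q : z' ∈ R.Q := pow_mem hzQ _
  have hz't : R.t * z' * R.t⁻¹ = z'⁻¹ := by rw [hz', ← conj_pow, hz2, inv_pow]
  refine ((MulAut.conj : K →* MulAut K).range.mul_mem_cancel_left ⟨z', rfl⟩).1 ?_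
  set ψ := MulAut.conj z' * φ with hψdef
  have hφz' : φ z' = z' := hfix _ hz'Q
  have hψt : ψ R.t = R.t := by
    rw [hψdef, MulAut.mul_apply, MulAut.conj_apply, hta]
    calc z' * (R.t * z) * z'⁻¹ = R.t * (R.t⁻¹ * z' * R.t) * z * z'⁻¹ := by group
      _ = R.t * z'⁻¹ * z * z'⁻¹ := by
        rw [show R.t⁻¹ * z' * R.t = R.t * z' * R.t⁻¹ by simp [R.S.t_inv], hz't]
      _ = R.t * (z'⁻¹ * (z * z'⁻¹)) := by group
      _ = R.t := by
        have e : z * z'⁻¹ = z'⁻¹ * z := ((Commute.self_pow z i).inv_right).eq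
        rw [e, show z'⁻¹ * (z'⁻¹ * z) = (z' * z')⁻¹ * z by group, hz', ← pow_add, ← two_mul, hz2i, inv_mul_cancel, mul_one]
  have hψQ : ∀ a ∈ R.Q, ψ a = a := fun a ha => by
    rw [hψdef, MulAut.mul_apply, hfix a ha, MulAut.conj_apply,
      ((show Commute z a from hzc a ha).pow_left i).eq, mul_inv_cancel_right]
  have hψ : ψ ^ 3 = 1 := by
    have hc : Commute (MulAut.conj z') φ := MulEquiv.ext fun y => by simp [MulAut.mul_apply, hφz']
    have h3 : ψ ^ 3 = MulAut.conj (z' ^ 3) := by rw [hψdef, hc.mul_pow, hφ, mul_one, ← map_pow]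
    have ht3 : (ψ ^ 3) R.t = R.t := by
      clear_value ψ
      rw [show ψ ^ 3 = ψ * (ψ * ψ) by rw [pow_succ', pow_two], MulAut.mul_apply, MulAut.mul_apply, hψt, hψt, hψt]
    rw [h3, MulAut.conj_apply] at ht3
    have h4 : R.t * z' ^ 3 * R.t⁻¹ = z' ^ 3 := by
      rw [← mul_inv_eq_iff_eq_mul.1 ht3, mul_inv_cancel_right]
    rw [← conj_pow, hz't] at h4
    have h6 : z' ^ 6 = 1 := by
      calc z' ^ 6 = z' ^ 3 * z' ^ 3 := by rw [← pow_add]
        _ = z'⁻¹ ^ 3 * z' ^ 3 := by rw [h4]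
        _ = 1 := by rw [inv_pow, inv_mul_cancel]
    have h7 : z' ^ Nat.gcd 6 (3 ^ (3 * R.e)) = 1 := pow_gcd_eq_one.2 ⟨h6, R.pow_Q hz'Q⟩
    have h8 : Nat.gcd 6 (3 ^ (3 * R.e)) ∣ 3 := by
      have hco : (Nat.gcd 6 (3 ^ (3 * R.e))).Coprime 2 :=
        (Nat.Coprime.pow_left _ (by norm_num : Nat.Coprime 3 2)).coprime_dvd_left (Nat.gcd_dvd_right _ _)
      exact hco.dvd_of_dvd_mul_left (show _ ∣ 2 * 3 from Nat.gcd_dvd_left _ _)
    obtain ⟨d, hd⟩ := h8
    have h9 : z' ^ 3 = 1 := by rw [hd, pow_mul, h7, one_pow]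
    rw [h3, h9, map_one]
  have hdvd : 3 ∣ Nat.card (Matrix.ProjectiveSpecialLinearGroup (Fin 2) F) := by
    rw [R.S.lp.card_P]; exact R.three_q.mul_left _
  obtain ⟨T, hT⟩ : ∃ T : Sylow 3 (Matrix.ProjectiveSpecialLinearGroup (Fin 2) F),
      (T : Subgroup (Matrix.ProjectiveSpecialLinearGroup (Fin 2) F)) = R.S.lp.K.U := by
    have hU : IsPGroup 3 ↥R.S.lp.K.U := IsPGroup.of_card (n := R.e) (R.S.lp.K.card_U.trans R.q_three)
    refine ⟨hU.toSylow ?_, rfl⟩
    intro hd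
    have hm := R.S.lp.K.U.card_mul_index
    rw [R.S.lp.K.card_U, R.S.lp.card_P, mul_comm (4 * R.S.lp.D.r * R.S.lp.m)] at hm
    rw [Nat.eq_of_mul_eq_mul_left (show 0 < R.S.lp.D.q from (by norm_num : 0 < 27).trans_le R.q_ge) hm] at hd
    rcases Nat.prime_three.dvd_mul.1 hd with h | h
    · rcases Nat.prime_three.dvd_mul.1 h with h | h
      · omega
      · exact R.S.lp.not_three_dvd_r h
    · exact R.S.lp.not_three_dvd_m h
  refine inner_of_fix R hF hq hmax (by norm_num) hdvd hψ hψt T fun k hk => hψQ _ (R.hUQ ?_)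
  exact ⟨k, hT ▸ hk, rfl⟩

omit hp in
/-- Groups of Ree type are good. -/
theorem ree_good : ReeGood.{u} := by
  intro K _ _ p hp hp2 hdvd h
  haveI := h.1
  obtain ⟨F, i1, i2, R, n, hn, hF, hq, hmax⟩ := exists_data h
  refine ⟨fun k hk => not_isolated R hF hp2 hk, fun α hα S hS => ?_⟩
  rcases prime_split R hp2 hdvd with rfl | hm | hr | hw
  · exact inner_of_three R hF hq hmax hα S hS
  · exact inner_of_local R hF hq hmax hp2 (Or.inl hm) hα S hS
  · exact inner_of_local R hF hq hmax hp2 (Or.inr hr) hα S hS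
  · exact inner_of_torus R hF hq hmax hp2 hw hα S hS

end Cfsg.Agent.Invol.IsolatedSfour.Ree
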