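import Cfsg.Agent.Lib.Invol.CycTI.Ree.Classes
import Mathlib.GroupTheory.GroupAction.Quotient

/-!
# The Sylow 3-subgroups of a group of Ree type and their fixed points under an automorphism
-/

set_option autoImplicit false
set_option linter.unusedSectionVars false
set_option linter.style.haveILetI false

open scoped Classical Pointwise

namespace Cfsg.Agent.Invol.IsolatedSfour.Ree

open Subgroup
open Cfsg.Agent.Invol.CycTI.Ree (Sys)

universe u v

variable {K : Type u} [Group K] [Finite K] {P : Type v} [Group P] (R : Sys K P)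

/-- The point stabiliser. -/
local notation "NQ" => normalizer (Sys.Q R : Set K)

/-- A nontrivial split torus element fixes two points only. -/
theorem fix_torus {y : P} (hy : y ∈ R.S.lp.K.Y) (hy1 : y ≠ 1) {c : K}
    (hc : c⁻¹ * R.ι y * c ∈ normalizer (R.Q : Set K)) (hcN : c ∉ normalizer (R.Q : Set K)) :
    ∃ n ∈ normalizer (R.Q : Set K), c = R.S.w * n := by
  obtain ⟨a, ha, n, hn, rfl⟩ := (R.S.double_coset R.hc R.hQ R.hUQ R.hT).2 c hcN
  refine ⟨n, hn, ?_⟩
  have hyT : R.ι y ∈ R.S.T := R.Ym_le (R.mem_Ym hy)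
  have hyN := R.hT hyT
  set b := (R.ι y)⁻¹ * a⁻¹ * R.ι y * a with hb
  have hbQ : b ∈ R.Q := by
    refine mul_mem ?_ ha
    have h := (mem_normalizer_iff.1 (inv_mem hyN) a⁻¹).1 (inv_mem ha)
    rwa [inv_inv] at h
  have hwy : R.S.w * R.ι y * R.S.w⁻¹ ∈ NQ := by
    rw [R.S.w_y hy]; exact inv_mem hyN
  have h2 : R.S.w * b * R.S.w⁻¹ ∈ NQ := by
    have h := (normalizer (R.Q : Set K)).mul_mem (inv_mem hwy) ((normalizer (R.Q : Set K)).mul_mem
      ((normalizer (R.Q : Set K)).mul_mem hn hc) (inv_mem hn))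
    convert h using 1
    rw [show R.S.w * b * R.S.w⁻¹ = (R.S.w * R.ι y * R.S.w⁻¹)⁻¹ * (R.S.w * (R.ι y * b) * R.S.w⁻¹) by group, hb]
    congr 1
    simp only [_root_.mul_inv_rev, R.S.w_inv]
    group
  obtain ⟨j, hj⟩ := R.hQ ⟨b, hbQ⟩
  have hwQ := R.three_mem (x := R.S.w * b * R.S.w⁻¹) (j := j)
    (by rw [conj_pow, show b ^ 3 ^ j = 1 from congrArg Subtype.val hj]; group) h2
  have hb1 := R.S.inter_eq R.hc R.hQ R.hUQ R.hT hbQ hwQ
  have haT : a ∈ R.S.T := R.cent_ym hy hy1 (by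
    calc a * R.ι y = a * (R.ι y * ((R.ι y)⁻¹ * a⁻¹ * R.ι y * a)) := by rw [← hb, hb1, mul_one]
      _ = R.ι y * a := by group)
  rw [R.T_inf_Q haT ha, one_mul]

/-- The centraliser of the Sylow subgroup lies in it. -/
theorem cent_Q_le {c : K} (hc : ∀ a ∈ R.Q, c * a = a * c) : c ∈ R.Q := by
  haveI : Fact (Nat.Prime 3) := ⟨Nat.prime_three⟩
  have hcN : c ∈ NQ := centralizer_le_normalizer _ (mem_centralizer_iff.2 fun a ha => (hc a ha).symm)
  obtain ⟨b, hb, hb1⟩ : ∃ b ∈ R.Q, b ≠ 1 := by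
    by_contra h
    push Not at h
    have h' := R.hc
    rw [(eq_bot_iff_forall _).2 h, card_bot] at h'
    have h27 := Nat.pow_le_pow_left R.q_ge 3
    change 1 = R.q ^ 3 at h'
    omega
  have hdvd := (orderOf_dvd_natCard _ (mem_centralizer_singleton_iff.2 (hc b hb))).trans (R.cent_Q_dvd hb hb1)
  -- no involution centralises the Sylow subgroup
  have hodd : ¬ 2 ∣ orderOf c := by
    intro h2
    have hs : orderOf (c ^ (orderOf c / 2)) = 2 := orderOf_pow_orderOf_div (orderOf_pos c).ne' h2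
    have hle : R.Q ≤ centralizer ({c ^ (orderOf c / 2)} : Set K) := fun a ha =>
      mem_centralizer_singleton_iff.2 ((show Commute c a from hc a ha).pow_left _).symm.eq
    obtain ⟨d, hd⟩ := R.one_class hs
    have h := card_dvd_of_le hle
    rw [R.hc, ← hd, Sys.cent_conj_card, R.card_C] at h
    have hq := R.q_ge
    have hle' := Nat.le_of_dvd (Nat.mul_pos (by omega) (by
      rw [R.sq_sub]; have := R.m_ge; have := R.r_ge; positivity)) h
    have : R.q * (R.q ^ 2 - 1) < R.q ^ 3 := by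
      rw [show R.q ^ 3 = R.q * R.q ^ 2 by ring]
      exact Nat.mul_lt_mul_of_pos_left (Nat.sub_lt (by positivity) one_pos) (by omega)
    exact absurd hle' (not_le.2 this)
  have hco : (orderOf c).Coprime 2 := ((Nat.prime_two.coprime_iff_not_dvd).2 hodd).symm
  have h3 := hco.dvd_of_dvd_mul_left hdvd
  rw [R.q_three, ← pow_mul] at h3
  exact R.three_mem (j := R.e * 3) (orderOf_dvd_iff_pow_eq_one.1 h3) hcN

/-- The Sylow subgroup. -/
noncomputable def S₀ : Sylow 3 K :=
  haveI : Fact (Nat.Prime 3) := ⟨Nat.prime_three⟩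
  R.hQ.toSylow (by
    intro h
    have hmul := R.Q.card_mul_index
    rw [R.hc, R.card_G, show R.q ^ 3 * (R.q ^ 2 - 1) * (R.q ^ 2 - R.q + 1) =
      R.q ^ 3 * ((R.q ^ 2 - 1) * (R.q ^ 2 - R.q + 1)) by ring] at hmul
    rw [Nat.eq_of_mul_eq_mul_left (show 0 < R.q ^ 3 from pow_pos (by have := R.q_ge; omega) 3) hmul] at h
    rcases Nat.prime_three.dvd_mul.1 h with h | h
    · rw [R.sq_sub] at h
      rcases Nat.prime_three.dvd_mul.1 h with h | h
      · rcases Nat.prime_three.dvd_mul.1 h with h | h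
        · omega
        · exact R.S.lp.not_three_dvd_r h
      · exact R.S.lp.not_three_dvd_m h
    · exact Nat.prime_three.not_dvd_one
        (R.coprime_w.gcd_eq_one ▸ Nat.dvd_gcd h (dvd_mul_of_dvd_left R.three_q _)))

theorem coe_S₀ : ((S₀ R : Sylow 3 K) : Subgroup K) = R.Q := rfl

theorem smul_S₀_eq {g : K} : g • S₀ R = S₀ R ↔ g ∈ normalizer (R.Q : Set K) := Sylow.smul_eq_iff_mem_normalizer

theorem smul_eq_iff {g h : K} : g • S₀ R = h • S₀ R ↔ h⁻¹ * g ∈ normalizer (R.Q : Set K) := by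
  rw [← smul_S₀_eq, mul_smul, inv_smul_eq_iff]

theorem mem_stab_iff {g c : K} :
    g • (c • S₀ R) = c • S₀ R ↔ c⁻¹ * g * c ∈ normalizer (R.Q : Set K) := by
  rw [← mul_smul, smul_eq_iff, mul_assoc]

/-- The points, indexed by the base point and the elements of the Sylow subgroup. -/
noncomputable def pt : Option ↥R.Q → Sylow 3 K := fun o => o.elim (S₀ R) fun a => ((a : K) * R.S.w) • S₀ R

theorem pt_bijective : Function.Bijective (pt R) := by
  haveI : Fact (Nat.Prime 3) := ⟨Nat.prime_three⟩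
  have hne : ∀ a : ↥R.Q, ((a : K) * R.S.w) • S₀ R ≠ S₀ R := fun a h => by
    rw [smul_S₀_eq] at h
    have h' := mul_mem (inv_mem (le_normalizer a.2 : (a : K) ∈ NQ)) h
    rw [inv_mul_cancel_left] at h'
    exact R.S.w_not_mem R.hc R.hQ R.hUQ R.hT h'
  refine ⟨?_, fun S => ?_⟩
  · rintro (_ | a) (_ | b) h
    · rfl
    · exact absurd h.symm (hne b)
    · exact absurd h (hne a)
    · change ((a : K) * R.S.w) • S₀ R = ((b : K) * R.S.w) • S₀ R at h
      rw [smul_eq_iff] at h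
      have hd : (b : K)⁻¹ * a ∈ R.Q := mul_mem (inv_mem b.2) a.2
      obtain ⟨j, hj⟩ := R.hQ ⟨_, hd⟩
      have hw : R.S.w * ((b : K)⁻¹ * a) * R.S.w⁻¹ ∈ R.Q := by
        refine R.three_mem (j := j) ?_ ?_
        · rw [conj_pow, show ((b : K)⁻¹ * a) ^ 3 ^ j = 1 from congrArg Subtype.val hj]; group
        · convert h using 1
          simp only [_root_.mul_inv_rev, R.S.w_inv]
          group
      exact congrArg some (Subtype.ext (inv_mul_eq_one.1 (R.S.inter_eq R.hc R.hQ R.hUQ R.hT hd hw)).symm)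
  · obtain ⟨g, rfl⟩ := MulAction.exists_smul_eq K (S₀ R) S
    by_cases hg : g ∈ NQ
    · exact ⟨none, (smul_S₀_eq R |>.2 hg).symm⟩
    · obtain ⟨a, ha, n, hn, rfl⟩ := (R.S.double_coset R.hc R.hQ R.hUQ R.hT).2 g hg
      refine ⟨some ⟨a, ha⟩, ?_⟩
      show (a * R.S.w) • S₀ R = (a * R.S.w * n) • S₀ R
      rw [smul_eq_iff, show (a * R.S.w * n)⁻¹ * (a * R.S.w) = n⁻¹ by group]
      exact inv_mem hn

/-- The number of points. -/
theorem card_points : Nat.card (Sylow 3 K) = R.q ^ 3 + 1 := by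
  rw [← Nat.card_eq_of_bijective _ (pt_bijective R), Finite.card_option, R.hc]

theorem aut_smul (α : MulAut K) (g : K) (S : Sylow 3 K) : α • (g • S) = α g • (α • S) := by
  apply Sylow.ext
  ext x
  rw [Sylow.pointwise_smul_def, Sylow.coe_subgroup_smul, Sylow.coe_subgroup_smul, Sylow.pointwise_smul_def,
    mem_pointwise_smul_iff_inv_smul_mem, mem_pointwise_smul_iff_inv_smul_mem, mem_pointwise_smul_iff_inv_smul_mem,
    mem_pointwise_smul_iff_inv_smul_mem]
  simp only [MulAut.smul_def, MulAut.inv_def]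
  simp [map_mul, map_inv]

theorem aut_fix_Q {α : MulAut K} (h : α • S₀ R = S₀ R) {a : K} (ha : a ∈ R.Q) : α a ∈ R.Q := by
  have h1 : α • a ∈ α • (R.Q) := smul_mem_pointwise_smul a α _ ha
  rwa [show α • R.Q = R.Q from congrArg (fun S : Sylow 3 K => (S : Subgroup K)) h] at h1

/-- The fixed points of an automorphism fixing two standard points. -/
theorem card_fixed {α : MulAut K} (h0 : α • S₀ R = S₀ R) (h1 : α • (R.S.w • S₀ R) = R.S.w • S₀ R) :
    Nat.card {S : Sylow 3 K // α • S = S} =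
      Nat.card ↥(R.Q ⊓ α.toMonoidHom.eqLocus (MonoidHom.id K) : Subgroup K) + 1 := by
  set C : Subgroup K := R.Q ⊓ α.toMonoidHom.eqLocus (MonoidHom.id K)
  have hpt : ∀ a : ↥R.Q, α • pt R (some a) = pt R (some ⟨α a, aut_fix_Q R h0 a.2⟩) := fun a => by
    show α • (((a : K) * R.S.w) • S₀ R) = (α a * R.S.w) • S₀ R
    rw [mul_smul, aut_smul, h1, ← mul_smul]
  rw [← Finite.card_option]
  refine (Nat.card_eq_of_bijective (fun o : Option ↥C => (⟨pt R (o.map fun a : ↥C => (⟨(a : K), a.2.1⟩ : ↥R.Q)), ?_⟩ :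
    {S : Sylow 3 K // α • S = S})) ⟨?_, ?_⟩).symm
  · rcases o with _ | ⟨a, ha⟩
    · exact h0
    · rw [Option.map_some, hpt]
      exact congrArg _ (congrArg some (Subtype.ext ha.2))
  · intro o o' h
    have h' := (pt_bijective R).1 (congrArg Subtype.val h)
    have hinj : Function.Injective fun a : ↥C => (⟨(a : K), a.2.1⟩ : ↥R.Q) := fun a b e =>
      Subtype.ext (congrArg Subtype.val e :)
    exact Option.map_injective hinj h'
  · rintro ⟨S, hS⟩
    obtain ⟨o, rfl⟩ := (pt_bijective R).2 S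
    rcases o with _ | a
    · exact ⟨none, rfl⟩
    · rw [hpt] at hS
      have h' := Option.some.inj ((pt_bijective R).1 hS)
      exact ⟨some ⟨a, a.2, congrArg Subtype.val h'⟩, rfl⟩

/-- The points fixed by the involution. -/
theorem card_fixed_t : Nat.card {S : Sylow 3 K // R.t • S = S} = R.q + 1 := by
  have h0 : R.t • S₀ R = S₀ R := (smul_S₀_eq R).2 (R.hT R.t_mem)
  have h1 : R.t • (R.S.w • S₀ R) = R.S.w • S₀ R := by
    rw [← mul_smul, R.S.tw, mul_smul, h0]
  have hsm : ∀ S : Sylow 3 K, MulAut.conj R.t • S = R.t • S := fun S => rfl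
  have h := card_fixed R (α := MulAut.conj R.t) (by rw [hsm]; exact h0) (by rw [hsm]; exact h1)
  refine h.trans ?_
  congr 1
  rw [← R.card_Um]
  refine congrArg (fun H : Subgroup K => Nat.card ↥H) ?_
  refine le_antisymm (fun a ha => R.t_fix ha.1 ?_) fun a ha => ⟨R.hUQ ha, ?_⟩
  · exact (mul_inv_eq_iff_eq_mul.1 (show R.t * a * R.t⁻¹ = a from ha.2)).symm
  · show R.t * a * R.t⁻¹ = a
    rw [← R.Um_fix ha, mul_inv_cancel_right]

/-- A free action. -/
theorem card_dvd_of_free {H : Type*} [Group H] [Finite H] {β : Type*} [MulAction H β] [Finite β]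
    (h : ∀ (a : H) (b : β), a • b = b → a = 1) : Nat.card H ∣ Nat.card β := by
  have e := MulAction.selfEquivSigmaOrbits H β
  haveI : Fintype (Quotient (MulAction.orbitRel H β)) := Fintype.ofFinite _
  rw [Nat.card_congr e, Nat.card_sigma]
  refine Finset.dvd_sum fun ω _ => ?_
  have hst : MulAction.stabilizer H ω.out = ⊥ :=
    (eq_bot_iff_forall _).2 fun a ha => h a _ (MulAction.mem_stabilizer_iff.1 ha)
  rw [Nat.card_congr (MulAction.orbitEquivQuotientStabilizer H ω.out), ← Subgroup.index, hst, index_bot]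

/-- Elements of order prime to `q (q² - 1)` fix no point. -/
theorem not_fix {k : K} (hco : (orderOf k).Coprime (R.q * (R.q ^ 2 - 1))) {S : Sylow 3 K} (h : k • S = S) : k = 1 := by
  obtain ⟨o, rfl⟩ := (pt_bijective R).2 S
  obtain ⟨c, hc⟩ : ∃ c : K, pt R o = c • S₀ R := by
    rcases o with _ | a
    · exact ⟨1, (one_smul K _).symm⟩
    · exact ⟨_, rfl⟩
  rw [hc, mem_stab_iff] at h
  have hd := orderOf_dvd_natCard _ h
  rw [R.card_N, show c⁻¹ * k * c = c⁻¹ * k * c⁻¹⁻¹ by rw [inv_inv], Invol.orderOf_conj_eq] at hd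
  refine orderOf_eq_one_iff.1 (Nat.eq_one_of_dvd_coprimes (Nat.Coprime.pow_right 3 hco) dvd_rfl (hd.trans ?_))
  rw [mul_pow]
  refine Nat.mul_dvd_mul_left _ (dvd_trans ?_ (dvd_pow_self _ (by norm_num)))
  rw [R.sq_sub, show R.q - 1 = 2 * R.m by have := R.q_m; omega]
  exact ⟨4 * R.r, by ring⟩

end Cfsg.Agent.Invol.IsolatedSfour.Ree
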