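import Cfsg.Agent.Lib.Invol.PiHom.Main
import Cfsg.Agent.Lib.Invol.IsolatedSfour.Ree.Field

/-!
# The primes dividing `q² - q + 1`: the torus and the automorphisms centralising a Sylow subgroup
-/

set_option autoImplicit false
set_option linter.unusedSectionVars false
set_option linter.style.haveILetI false

open scoped Classical Pointwise

namespace Cfsg.Agent.Invol.IsolatedSfour.Ree

open Subgroup
open Cfsg.Agent.Invol.CycTI.Ree (Sys)

universe u

variable {F : Type} [Field F] [Fintype F] {p : ℕ} [hp : Fact p.Prime] {K : Type u} [Group K] [Finite K]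
  (R : Sys K (Matrix.ProjectiveSpecialLinearGroup (Fin 2) F))

include hp

/-- The torus with its Sylow subgroup. -/
theorem exists_torus {m : ℕ} (hF : Fintype.card F = 3 ^ m) (hW : p ∣ R.q ^ 2 - R.q + 1) :
    ∃ (x : K) (S : Sylow p K), orderOf x = p ∧ x ∈ (S : Subgroup K) ∧
      (S : Subgroup K) ≤ centralizer ({x} : Set K) ∧
      (∀ a ∈ centralizer ({x} : Set K), ∀ b ∈ centralizer ({x} : Set K), a * b = b * a) ∧
      (∀ a ∈ centralizer ({x} : Set K), R.t * a * R.t⁻¹ = a⁻¹) := by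
  haveI : Fintype K := Fintype.ofFinite K
  obtain ⟨x, hx, hxi⟩ := PiHom.Ree.exists_real_prime R (PiHom.psl3 hF) hp.out hW
  have hx1 : x ≠ 1 := fun e => by rw [e, orderOf_one] at hx; exact hp.out.ne_one hx.symm
  have h := PiHom.Ree.wtor_of R ((PiHom.Ree.mem_MW R).2
    ⟨hx1, hx.symm ▸ R.coprime_w.coprime_dvd_left hW, hxi⟩)
  obtain ⟨S, hS⟩ := (IsPGroup.of_card (p := p) (G := zpowers x) (n := 1)
    (by rw [Nat.card_zpowers, hx, pow_one])).exists_le_sylow
  haveI : Nontrivial ↥(S : Subgroup K) :=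
    nontrivial_iff.2 ⟨⟨x, hS (mem_zpowers x)⟩, 1, fun e => hx1 (congrArg Subtype.val e)⟩
  obtain ⟨z, hz1⟩ := @exists_ne _ S.isPGroup'.center_nontrivial 1
  have hz : ((z : ↥(S : Subgroup K)) : K) ∈ centralizer ({x} : Set K) := mem_centralizer_singleton_iff.2
    (congrArg Subtype.val (mem_center_iff.1 z.2 ⟨x, hS (mem_zpowers x)⟩).symm)
  have hz1' : ((z : ↥(S : Subgroup K)) : K) ≠ 1 := fun e => hz1 (Subtype.ext (Subtype.ext e))
  refine ⟨x, S, hx, hS (mem_zpowers x), fun s hs => h.mem_of_comm hz hz1'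
    (congrArg Subtype.val (mem_center_iff.1 z.2 ⟨s, hs⟩)), h.comm, h.inv⟩

/-- An element of that order is inverted by a conjugate. -/
theorem exists_inverter {m : ℕ} (hF : Fintype.card F = 3 ^ m) (hW : p ∣ R.q ^ 2 - R.q + 1) {k : K}
    (hk : orderOf k = p) : ∃ h : K, h * k * h⁻¹ = k⁻¹ := by
  obtain ⟨x, S, -, -, hle, -, hinv⟩ := exists_torus R hF hW
  obtain ⟨c, hc⟩ := Invol.exists_conj_mem_sylow (n := 1) (hk.trans (pow_one p).symm) S
  refine ⟨c⁻¹ * R.t * c, ?_⟩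
  calc c⁻¹ * R.t * c * k * (c⁻¹ * R.t * c)⁻¹ = c⁻¹ * (R.t * (c * k * c⁻¹) * R.t⁻¹) * c := by group
    _ = c⁻¹ * (c * k * c⁻¹)⁻¹ * c := by rw [hinv _ (hle hc)]
    _ = k⁻¹ := by group

/-- An automorphism fixing a Sylow subgroup and an element of its torus is inner. -/
theorem inner_of_torus [IsSimpleGroup K] {n : ℕ} (hF : Fintype.card F = 3 ^ (2 * n + 1)) (hq : R.q = Fintype.card F)
    (hmax : IsCoatom (centralizer ({R.t} : Set K))) (hp2 : p ≠ 2) (hW : p ∣ R.q ^ 2 - R.q + 1) {α : MulAut K}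
    (hα : α ^ p = 1) (S₁ : Sylow p K) (hS₁ : ∀ y ∈ (S₁ : Subgroup K), α y = y) :
    α ∈ (MulAut.conj : K →* MulAut K).range := by
  haveI : ((MulAut.conj : K →* MulAut K).range).Normal := (inferInstance : (Cfsg.Inn K).Normal)
  obtain ⟨x, S, hx, hxS, hle, hcomm, hinv⟩ := exists_torus R hF hW
  set A := centralizer ({x} : Set K) with hA
  obtain ⟨h, hh⟩ := IsolatedSmall.exists_conj_fix hS₁ S.isPGroup'
  refine IsolatedSmall.mem_of_conj (β := MulAut.conj h) ?_
  have hαp : (MulAut.conj h * α * (MulAut.conj h)⁻¹) ^ p = 1 := by rw [conj_pow, hα, mul_one, mul_inv_cancel]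
  clear hα hS₁
  revert hh hαp
  generalize MulAut.conj h * α * (MulAut.conj h)⁻¹ = φ
  intro hfix hφ
  have hAφ : ∀ b ∈ A, φ b ∈ A := fun b hb => by
    refine mem_centralizer_singleton_iff.2 ?_
    rw [← hfix x hxS, ← map_mul, ← map_mul, mem_centralizer_singleton_iff.1 hb]
  -- the displacement of the involution
  set a := R.t⁻¹ * φ R.t with hadef
  have hta : φ R.t = R.t * a := by rw [hadef, mul_inv_cancel_left]
  have haA : a ∈ A := by
    refine mem_centralizer_singleton_iff.2 ?_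
    have hxi : R.t * x * R.t⁻¹ = x⁻¹ := hinv x (mem_centralizer_singleton_iff.2 rfl)
    have hxi' : φ R.t * x * (φ R.t)⁻¹ = x⁻¹ := by
      have h := congrArg φ hxi
      rwa [map_mul, map_mul, map_inv, map_inv, hfix x hxS] at h
    rw [hta] at hxi'
    refine mul_inv_eq_iff_eq_mul.1 ?_
    calc a * x * a⁻¹ = R.t⁻¹ * (R.t * a * x * (R.t * a)⁻¹) * R.t := by group
      _ = R.t⁻¹ * (R.t * x * R.t⁻¹) * R.t := by rw [hxi', hxi]
      _ = x := by group
  -- the exponent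
  set N := Nat.card ↥A with hN
  obtain ⟨n', hn'⟩ : Nat.card ↥(S : Subgroup K) ∣ N := card_dvd_of_le hle
  obtain ⟨v, hv⟩ := IsPGroup.iff_card.1 S.isPGroup'
  rw [hv] at hn'
  have hn'p : ¬ p ∣ n' := by
    intro hd
    have h1 : p ^ (v + 1) ∣ Nat.card K :=
      (pow_succ p v ▸ Nat.mul_dvd_mul_left (p ^ v) hd).trans (hn' ▸ card_subgroup_dvd_card A)
    have h2 := S.pow_dvd_card_of_pow_dvd_card h1
    rw [hv, Nat.pow_dvd_pow_iff_le_right hp.out.one_lt] at h2
    omega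
  have hpodd : Odd (p ^ v) := (hp.out.odd_of_ne_two hp2).pow
  obtain ⟨i, hi0, hi1⟩ := Nat.chineseRemainder (((hp.out.coprime_iff_not_dvd.2 hn'p).pow_left v).symm) 0
    ((p ^ v + 1) / 2)
  obtain ⟨i', rfl⟩ := Nat.modEq_zero_iff_dvd.1 hi0
  have h2i : 2 * (n' * i') ≡ 1 [MOD p ^ v] := by
    refine (hi1.mul_left 2).trans ?_
    obtain ⟨d, hd⟩ := hpodd
    rw [hd, show (2 * d + 1 + 1) / 2 = d + 1 by omega, show 2 * (d + 1) = (2 * d + 1) + 1 by ring]
    exact Nat.add_modEq_left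
  have hpowN : ∀ b ∈ A, b ^ N = 1 := fun b hb =>
    congrArg Subtype.val (pow_card_eq_one' (x := (⟨b, hb⟩ : ↥A)))
  set z := a ^ (n' * i') with hz
  have hzA : z ∈ A := pow_mem haA _
  have hzpv : z ^ p ^ v = 1 := by
    rw [hz, ← pow_mul, show n' * i' * p ^ v = N * i' by rw [hn']; ring, pow_mul, hpowN a haA, one_pow]
  have hzS : z ∈ (S : Subgroup K) := by
    obtain ⟨j, -, hj⟩ := (Nat.dvd_prime_pow hp.out).1 (orderOf_dvd_of_pow_eq_one hzpv)
    have hzp : IsPGroup p ↥(zpowers z) := IsPGroup.of_card (n := j) (by rw [Nat.card_zpowers, hj])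
    have hnorm : zpowers z ≤ normalizer ((S : Subgroup K) : Set K) := by
      rw [zpowers_le]
      exact centralizer_le_normalizer _ (mem_centralizer_iff.2 fun s hs => hcomm s (hle hs) z hzA)
    rw [← S.is_maximal' (hzp.to_sup_of_normal_right' S.isPGroup' hnorm) le_sup_right]
    exact mem_sup_left (mem_zpowers z)
  have hφz : φ z = z := hfix z hzS
  have hzp : z ^ p = 1 := by
    have hit : ∀ j : ℕ, ∃ b ∈ A, (φ ^ j) R.t = R.t * b ∧ b ^ (n' * i') = z ^ j := by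
      intro j
      induction j with
      | zero => exact ⟨1, one_mem _, by rw [pow_zero, mul_one]; rfl, by rw [one_pow, pow_zero]⟩
      | succ j ih =>
        obtain ⟨b, hb, e1, e2⟩ := ih
        refine ⟨a * φ b, mul_mem haA (hAφ b hb), ?_, ?_⟩
        · rw [pow_succ', MulAut.mul_apply, e1, map_mul, hta, mul_assoc]
        · rw [(show Commute a (φ b) from hcomm a haA _ (hAφ b hb)).mul_pow, ← map_pow, e2, map_pow, hφz, ← hz,
            pow_succ']
    obtain ⟨b, -, e1, e2⟩ := hit p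
    rw [hφ, MulAut.one_apply, left_eq_mul] at e1
    rw [← e2, e1, one_pow]
  -- a twist moving the involution inside the part of order prime to `p`
  refine ((MulAut.conj : K →* MulAut K).range.mul_mem_cancel_left ⟨z, rfl⟩).1 ?_
  set ψ := MulAut.conj z * φ with hψdef
  have hcz : MulAut.conj z * φ = φ * MulAut.conj z := MulEquiv.ext fun y => by
    simp [MulAut.mul_apply, hφz]
  have hψ : ψ ^ p = 1 := by
    rw [hψdef, (show Commute (MulAut.conj z) φ from hcz).mul_pow, hφ, ← map_pow, hzp, map_one, one_mul]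
  have hψS : ∀ y ∈ (S : Subgroup K), ψ y = y := fun y hy => by
    rw [hψdef, MulAut.mul_apply, hfix y hy, MulAut.conj_apply, hcomm z hzA y (hle hy), mul_inv_cancel_right]
  have hψA : ∀ b ∈ A, ψ b ∈ A := fun b hb => by
    rw [hψdef, MulAut.mul_apply, MulAut.conj_apply]
    exact mul_mem (mul_mem hzA (hAφ b hb)) (inv_mem hzA)
  set b₀ := a * z⁻¹ * z⁻¹ with hb₀
  have hψt : ψ R.t = R.t * b₀ := by
    rw [hψdef, MulAut.mul_apply, hta, MulAut.conj_apply, hb₀]
    have hz' : R.t⁻¹ * z * R.t = z⁻¹ := by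
      rw [← hinv z hzA, show R.t⁻¹ = R.t from R.S.t_inv]
    calc z * (R.t * a) * z⁻¹ = R.t * ((R.t⁻¹ * z * R.t) * a) * z⁻¹ := by group
      _ = R.t * (z⁻¹ * a) * z⁻¹ := by rw [hz']
      _ = R.t * (a * z⁻¹) * z⁻¹ := by rw [hcomm z⁻¹ (inv_mem hzA) a haA]
      _ = _ := by group
  have hb₀A : b₀ ∈ A := mul_mem (mul_mem haA (inv_mem hzA)) (inv_mem hzA)
  have hb₀n : b₀ ^ n' = 1 := by
    have hcz' : Commute a z⁻¹ := hcomm a haA _ (inv_mem hzA)
    rw [hb₀, (hcz'.mul_left (Commute.refl _)).mul_pow, hcz'.mul_pow, mul_assoc, ← pow_add, inv_pow]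
    rw [mul_inv_eq_one, hz, ← pow_mul]
    have hord : orderOf (a ^ n') ∣ p ^ v := orderOf_dvd_of_pow_eq_one (by
      rw [← pow_mul, mul_comm, ← hn', hpowN a haA])
    rw [show n' * i' * (n' + n') = n' * (2 * (n' * i')) by ring, pow_mul a n' (2 * (n' * i'))]
    conv_lhs => rw [← pow_one (a ^ n')]
    exact pow_eq_pow_iff_modEq.2 (h2i.of_dvd hord).symm
  -- the part of order prime to `p`
  let A' : Subgroup K :=
    { carrier := {b | b ∈ A ∧ b ^ n' = 1}
      one_mem' := ⟨one_mem _, one_pow _⟩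
      mul_mem' := fun {b c} hb hc => ⟨mul_mem hb.1 hc.1, by
        rw [(show Commute b c from hcomm b hb.1 c hc.1).mul_pow, hb.2, hc.2, one_mul]⟩
      inv_mem' := fun {b} hb => ⟨inv_mem hb.1, by rw [inv_pow, hb.2, inv_one]⟩ }
  have hA'p : ¬ p ∣ Nat.card ↥A' := fun hd => by
    obtain ⟨⟨b, hb⟩, hbo⟩ := exists_prime_orderOf_dvd_card' (G := ↥A') p hd
    rw [orderOf_mk] at hbo
    exact hn'p (hbo ▸ orderOf_dvd_of_pow_eq_one hb.2)
  have hA'ψ : ∀ b ∈ A', ψ b ∈ A' := fun b hb => ⟨hψA b hb.1, by rw [← map_pow, hb.2, map_one]⟩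
  -- a fixed involution of the coset
  let σ : ↥A' → ↥A' := fun b => ⟨b₀ * ψ b, mul_mem (⟨hb₀A, hb₀n⟩ : b₀ ∈ A') (hA'ψ b b.2)⟩
  have hσ : ∀ b : ↥A', ψ (R.t * b) = R.t * (σ b : K) := fun b => by
    rw [map_mul, hψt, mul_assoc]
  have hσpow : ∀ (j : ℕ) (b : ↥A'), ∃ c : ↥A', (ψ ^ j) (R.t * b) = R.t * c := by
    intro j
    induction j with
    | zero => exact fun b => ⟨b, rfl⟩
    | succ j ih =>
      intro b
      obtain ⟨c, hc⟩ := ih b
      exact ⟨σ c, by rw [pow_succ', MulAut.mul_apply, hc, hσ]⟩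
  letI : MulAction ↥(zpowers ψ) {s : K // ∃ b : ↥A', s = R.t * b} :=
    { smul := fun γ s => ⟨(γ : MulAut K) s, by
        obtain ⟨b, hb⟩ := s.2
        obtain ⟨j, hj⟩ := Submonoid.mem_powers_iff _ _ |>.1
          ((IsOfFinOrder.mem_powers_iff_mem_zpowers (isOfFinOrder_iff_pow_eq_one.2 ⟨p, hp.out.pos, hψ⟩)).2 γ.2)
        rw [hb, ← hj]
        exact hσpow j b⟩
      one_smul := fun s => Subtype.ext rfl
      mul_smul := fun _ _ s => Subtype.ext rfl }
  have hψg : IsPGroup p ↥(zpowers ψ) := by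
    obtain ⟨j, -, hj⟩ := (Nat.dvd_prime_pow hp.out).1
      (show orderOf ψ ∣ p ^ 1 by rw [pow_one]; exact orderOf_dvd_of_pow_eq_one hψ)
    exact IsPGroup.of_card (n := j) (by rw [Nat.card_zpowers, hj])
  have hcard : ¬ p ∣ Nat.card {s : K // ∃ b : ↥A', s = R.t * b} := by
    rwa [← Nat.card_eq_of_bijective (fun b : ↥A' => (⟨R.t * b, b, rfl⟩ : {s : K // ∃ b : ↥A', s = R.t * b}))
      ⟨fun b c e => Subtype.ext (mul_left_cancel (congrArg Subtype.val e)),
        fun ⟨s, b, hb⟩ => ⟨b, Subtype.ext hb.symm⟩⟩]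
  obtain ⟨⟨s, b, hb⟩, hs⟩ := hψg.nonempty_fixed_point_of_prime_not_dvd_card _ hcard
  have hψs : ψ s = s := congrArg Subtype.val (hs ⟨ψ, mem_zpowers ψ⟩)
  have hso : orderOf s = 2 := by
    refine orderOf_eq_prime ?_ fun e => ?_
    · rw [hb, pow_two, show R.t * b * (R.t * b) = (R.t * b * R.t⁻¹) * (R.t * R.t) * (b : K) by group, R.tt,
        mul_one, hinv _ b.2.1, inv_mul_cancel]
    · have ht : R.t ∈ A := by
        rw [eq_inv_of_mul_eq_one_left (hb.symm.trans e)]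
        exact inv_mem b.2.1
      have h1 : R.t * x * R.t⁻¹ = x⁻¹ := hinv x (mem_centralizer_singleton_iff.2 rfl)
      rw [mem_centralizer_singleton_iff.1 ht, mul_inv_cancel_right] at h1
      have h2 : x * x = 1 := by nth_rewrite 1 [h1]; exact inv_mul_cancel x
      have h3 := orderOf_dvd_of_pow_eq_one (show x ^ 2 = 1 by rw [pow_two, h2])
      rw [hx] at h3
      exact hp2 ((Nat.prime_dvd_prime_iff_eq hp.out Nat.prime_two).1 h3)
  obtain ⟨c, hc⟩ := R.one_class hso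
  set γ := (MulAut.conj c)⁻¹ with hγ
  have h1 : γ * ψ * γ⁻¹ = 1 := by
    refine trivial_of_w R hF hq hmax hp2 hW (conj_pow_eq hψ) ?_ (γ • S) (conj_fix hψS)
    rw [MulAut.mul_apply, MulAut.mul_apply, hγ, inv_inv, MulAut.conj_apply, hc, hψs, MulAut.inv_def,
      MulEquiv.symm_apply_eq, MulAut.conj_apply, hc]
  rw [conj_eq_one_iff] at h1
  rw [h1]
  exact one_mem _

end Cfsg.Agent.Invol.IsolatedSfour.Ree
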